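import Groth.Agent.An.H866.AlgDense
import Groth.Agent.An.H863.PtsCont
import Groth.Agent.An.H863.PtsPullback
import Groth.Agent.An.H868.Chart
import Groth.Agent.An.H871.Imm
import Mathlib.AlgebraicGeometry.Morphisms.Etale
import Mathlib.RingTheory.Unramified.LocalStructure
import Mathlib.Topology.IsLocalHomeomorph

/-!
# Étale morphisms induce local homeomorphisms on complex points

* `exists_lift`: points of a standard étale algebra;
* `isOpenMap_map`: an étale morphism is open on complex points;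
* `exists_injOn`: an unramified morphism is locally injective on complex points;
* `isLocalHomeomorph_map`.
-/

set_option autoImplicit false

open CategoryTheory AlgebraicGeometry Topology TopologicalSpace Opposite Filter Polynomial
open Groth.Agent.An.H863.PtsBasic Groth.Agent.An.H863.PtsCont Groth.Agent.An.H868.Chart

noncomputable section

namespace Groth.Agent.An.H866.EtLH

/-- Points of a standard étale algebra over a given point of the base. -/
theorem exists_lift {R S : Type*} [CommRing R] [CommRing S] [Algebra R S]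
    (P : StandardEtalePresentation R S) (χ : R →+* ℂ) (t : ℂ) (hf : P.f.eval₂ χ t = 0)
    (hg : P.g.eval₂ χ t ≠ 0) :
    ∃ χ' : S →+* ℂ, (∀ r, χ' (algebraMap R S r) = χ r) ∧ χ' P.x = t := by
  let _ : Algebra R ℂ := χ.toAlgebra
  have hm : P.P.HasMap t := ⟨hf, IsUnit.mk0 _ hg⟩
  let ψ : S →ₐ[R] ℂ := (P.P.lift t hm).comp P.equivRing.toAlgHom
  refine ⟨ψ.toRingHom, fun r => ψ.commutes r, ?_⟩
  change P.P.lift t hm (P.equivRing P.x) = t
  rw [StandardEtalePresentation.equivRing_x, StandardEtalePair.lift_X]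

/-- Ring maps out of a standard étale algebra are determined by the values on the base and at the
generator. -/
theorem ext_standard {R S : Type*} [CommRing R] [CommRing S] [Algebra R S]
    (P : StandardEtalePresentation R S) (χ χ' : S →+* ℂ)
    (h : ∀ r, χ (algebraMap R S r) = χ' (algebraMap R S r)) (hx : χ P.x = χ' P.x) : χ = χ' := by
  let _ : Algebra R ℂ := (χ.comp (algebraMap R S)).toAlgebra
  let ψ : S →ₐ[R] ℂ := { χ with commutes' := fun r => rfl }
  let ψ' : S →ₐ[R] ℂ := { χ' with commutes' := fun r => (h r).symm }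
  have : ψ = ψ' := P.hom_ext hx
  ext s
  exact DFunLike.congr_fun this s

/-- Values of a point of a standard étale algebra as fractions of polynomials. -/
theorem value_eq {R S : Type*} [CommRing R] [CommRing S] [Algebra R S]
    (P : StandardEtalePresentation R S) (s : S) :
    ∃ (p : R[X]) (n : ℕ), ∀ χ' : S →+* ℂ,
      χ' s * (P.g.eval₂ (χ'.comp (algebraMap R S)) (χ' P.x)) ^ n =
        p.eval₂ (χ'.comp (algebraMap R S)) (χ' P.x) := by
  obtain ⟨p, n, h⟩ := P.exists_mul_aeval_x_g_pow_eq_aeval_x s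
  refine ⟨p, n, fun χ' => ?_⟩
  have h1 := congrArg χ' h
  rw [map_mul, map_pow] at h1
  have h2 : ∀ q : R[X], χ' (q.aeval P.x) = q.eval₂ (χ'.comp (algebraMap R S)) (χ' P.x) := by
    intro q
    rw [aeval_def, hom_eval₂]
  rw [h2, h2] at h1
  exact h1

/-- For a monic polynomial with coefficients in a ring `R` and a point `χ`, there is a root at
distance controlled by the value. -/
theorem exists_near_root {R : Type*} [CommRing R] (f : R[X]) (hf : f.Monic) (hd : f.natDegree ≠ 0)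
    (χ : R →+* ℂ) (t₀ : ℂ) :
    ∃ t : ℂ, f.eval₂ χ t = 0 ∧ ‖t - t₀‖ ^ f.natDegree ≤ ‖f.eval₂ χ t₀‖ := by
  have hm : ((f.map χ).comp (X + C t₀)).Monic := (hf.map χ).comp_X_add_C t₀
  have hdeg : ((f.map χ).comp (X + C t₀)).natDegree = f.natDegree := by
    rw [natDegree_comp, natDegree_X_add_C, mul_one, hf.natDegree_map]
  obtain ⟨z, hz, hz'⟩ := AlgDense.exists_small_root _ hm (by rw [hdeg]; exact hd)
  refine ⟨z + t₀, ?_, ?_⟩
  · rw [IsRoot, eval_comp] at hz
    simp only [eval_add, eval_X, eval_C] at hz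
    rw [eval_map] at hz
    exact hz
  · rw [hdeg] at hz'
    rw [add_sub_cancel_right]
    refine hz'.trans (le_of_eq ?_)
    congr 1
    rw [coeff_zero_eq_eval_zero, eval_comp]
    simp only [eval_add, eval_X, eval_C, zero_add]
    rw [eval_map]

variable {X Y : Scheme.{0}} [X.Over An.SC] [Y.Over An.SC]

/-- The values of a polynomial with coefficients in sections over `V` depend continuously on the
point and on the argument. -/
theorem continuousAt_eval₂ {T : Type*} [TopologicalSpace T] (V : Y.Opens)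
    (φ : T → An.Pts Y) (t₀ : T) (hV : ∀ t, (φ t).pt ∈ V)
    (hφ : ContinuousAt φ t₀) (τ : T → ℂ) (hτ : ContinuousAt τ t₀) (p : (Γ(Y, V))[X]) :
    ContinuousAt (fun t => p.eval₂ (evHom (φ t) V (hV t)) (τ t)) t₀ := by
  simp only [eval₂_eq_sum, Polynomial.sum]
  refine tendsto_finsetSum _ fun i _ => ?_
  refine ContinuousAt.mul ?_ (hτ.pow i)
  have h1 : ContinuousAt (fun t => evAt (φ t) V (p.coeff i)) t₀ :=
    ContinuousAt.comp (f := φ) (g := fun y => evAt y V (p.coeff i)) (continuousAt_evAt V _ (hV t₀)) hφ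
  refine h1.congr (Eventually.of_forall fun t => ?_)
  change evAt (φ t) V (p.coeff i) = (φ t).ev V (hV t) (p.coeff i)
  rw [evAt_of_mem (hV t)]

/-- The structure maps are compatible with pullback of sections. -/
theorem appLE_strU (g : X ⟶ Y) [g.IsOver An.SC] (V : Y.Opens) (U : X.Opens) (hle : U ≤ g ⁻¹ᵁ V)
    (c : ℂ) : g.appLE V U hle (strU V c) = strU U c := by
  have h1 : An.strHom X c = g.appTop (An.strHom Y c) := by
    change (X ↘ An.SC).appTop ((Scheme.ΓSpecIso (CommRingCat.of ℂ)).inv c) =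
      g.appTop ((Y ↘ An.SC).appTop ((Scheme.ΓSpecIso (CommRingCat.of ℂ)).inv c))
    rw [← CommRingCat.comp_apply (Y ↘ An.SC).appTop, ← Scheme.Hom.comp_appTop, comp_over]
  change g.appLE V U hle (Y.presheaf.map (homOfLE le_top).op (An.strHom Y c)) =
    X.presheaf.map (homOfLE le_top).op (An.strHom X c)
  rw [h1, ← CommRingCat.comp_apply, Scheme.Hom.map_appLE, ← CommRingCat.comp_apply]
  rfl

/-- An étale morphism is open on complex points. -/
theorem isOpenMap_map (g : X ⟶ Y) [g.IsOver An.SC] [Etale g] : IsOpenMap (An.Pts.map g) := by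
  classical
  refine IsOpenMap.of_nhds_le fun x => ?_
  -- charts
  obtain ⟨_, ⟨V, hV, rfl⟩, hyV, -⟩ :=
    Y.isBasis_affineOpens.exists_subset_of_mem_open (Set.mem_univ (g x.pt)) isOpen_univ
  obtain ⟨_, ⟨U, hU, rfl⟩, hxU, hUV⟩ :=
    X.isBasis_affineOpens.exists_subset_of_mem_open (a := x.pt) (u := (g ⁻¹ᵁ V : X.Opens))
      hyV (g ⁻¹ᵁ V).isOpen
  have hUV' : U ≤ g ⁻¹ᵁ V := hUV
  have het : (g.appLE V U hUV').hom.Etale := g.etale_appLE hV hU hUV'
  let _ : Algebra Γ(Y, V) Γ(X, U) := (g.appLE V U hUV').hom.toAlgebra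
  have : Algebra.Etale Γ(Y, V) Γ(X, U) := het
  let Q : Ideal Γ(X, U) := RingHom.ker (evHom x U hxU)
  have hQ : Q.IsPrime := RingHom.ker_isPrime _
  obtain ⟨h, hhQ, hstd⟩ := Algebra.IsEtaleAt.exists_isStandardEtale (R := Γ(Y, V)) Q
  have hU' : IsAffineOpen (X.basicOpen h) := hU.basicOpen h
  have hxU' : x.pt ∈ X.basicOpen h := (ev_ne_zero_iff x U hxU h).1 hhQ
  have hle : X.basicOpen h ≤ U := X.basicOpen_le h
  have hle' : X.basicOpen h ≤ g ⁻¹ᵁ V := hle.trans hUV'
  let _ : Algebra Γ(Y, V) Γ(X, X.basicOpen h) := (g.appLE V (X.basicOpen h) hle').hom.toAlgebra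
  have : IsLocalization.Away h Γ(X, X.basicOpen h) := hU.isLocalization_basicOpen h
  have : IsScalarTower Γ(Y, V) Γ(X, U) Γ(X, X.basicOpen h) := by
    refine IsScalarTower.of_algebraMap_eq' ?_
    change (g.appLE V (X.basicOpen h) hle').hom =
      (X.presheaf.map (homOfLE hle).op).hom.comp (g.appLE V U hUV').hom
    rw [← CommRingCat.hom_comp, Scheme.Hom.appLE_map]
  let e : Localization.Away h ≃ₐ[Γ(X, U)] Γ(X, X.basicOpen h) :=
    IsLocalization.algEquiv (Submonoid.powers h) _ _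
  have hstd' : Algebra.IsStandardEtale Γ(Y, V) Γ(X, X.basicOpen h) :=
    .of_equiv (e.restrictScalars Γ(Y, V))
  obtain ⟨P⟩ := hstd'.nonempty_standardEtalePresentation
  -- base parameter space
  have hmapV : ∀ z : An.Pts X, z.pt ∈ X.basicOpen h → (An.Pts.map g z).pt ∈ V := fun z hz => by
    rw [An.Pts.pt_map]; exact hle' hz
  have hcomp : ∀ (z : An.Pts X) (hz : z.pt ∈ X.basicOpen h),
      (evHom z (X.basicOpen h) hz).comp (algebraMap Γ(Y, V) Γ(X, X.basicOpen h)) =
        evHom (An.Pts.map g z) V (hmapV z hz) := fun z hz => by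
    refine RingHom.ext fun r => ?_
    have h1 := Groth.Agent.An.H863.PtsPullback.evAt_appLE g z V (X.basicOpen h) hle' hz r
    rw [evAt_of_mem hz, evAt_of_mem (hmapV z hz)] at h1
    exact h1
  let y₀ : {y : An.Pts Y // y.pt ∈ V} := ⟨An.Pts.map g x, hmapV x hxU'⟩
  set t₀ : ℂ := x.ev (X.basicOpen h) hxU' P.x with ht₀
  have hev : ∀ q : (Γ(Y, V))[X], q.eval₂ (evHom y₀.1 V y₀.2) t₀ =
      x.ev (X.basicOpen h) hxU' (aeval P.x q) := fun q => by
    rw [← hcomp x hxU', aeval_def]
    change _ = evHom x (X.basicOpen h) hxU' _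
    rw [hom_eval₂]
    rfl
  have hf0 : P.f.eval₂ (evHom y₀.1 V y₀.2) t₀ = 0 := by
    rw [hev, P.hasMap.1, ev_zero]
  have hg0 : P.g.eval₂ (evHom y₀.1 V y₀.2) t₀ ≠ 0 := by
    rw [hev]
    exact ((P.hasMap.2).map (evHom x (X.basicOpen h) hxU')).ne_zero
  have hd : P.f.natDegree ≠ 0 := by
    intro hd0
    rw [P.monic_f.natDegree_eq_zero.1 hd0, eval₂_one] at hf0
    exact one_ne_zero hf0
  choose σ hσ1 hσ2 using fun y : {y : An.Pts Y // y.pt ∈ V} =>
    exists_near_root P.f P.monic_f hd (evHom y.1 V y.2) t₀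
  have hval : ∀ q : (Γ(Y, V))[X], ∀ τ : {y : An.Pts Y // y.pt ∈ V} → ℂ, ContinuousAt τ y₀ →
      ContinuousAt (fun y : {y : An.Pts Y // y.pt ∈ V} => q.eval₂ (evHom y.1 V y.2) (τ y)) y₀ :=
    fun q τ hτ => continuousAt_eval₂ V Subtype.val y₀ (fun y => y.2)
      continuous_subtype_val.continuousAt τ hτ q
  have hσ0 : σ y₀ = t₀ := by
    have h1 := hσ2 y₀
    rw [hf0, norm_zero] at h1
    have h2 : ‖σ y₀ - t₀‖ ^ P.f.natDegree = 0 := le_antisymm h1 (by positivity)
    exact sub_eq_zero.1 (norm_eq_zero.1 ((pow_eq_zero_iff hd).1 h2))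
  have hσc : ContinuousAt σ y₀ := by
    have h1 := (hval P.f (fun _ => t₀) continuousAt_const).norm
    rw [ContinuousAt, hf0, norm_zero] at h1
    rw [Metric.continuousAt_iff']
    intro ε hε
    filter_upwards [h1.eventually (gt_mem_nhds (pow_pos hε P.f.natDegree))] with y hy
    rw [hσ0, dist_eq_norm]
    exact lt_of_pow_lt_pow_left₀ _ hε.le ((hσ2 y).trans_lt hy)
  let G : {y : An.Pts Y // y.pt ∈ V} → ℂ := fun y => P.g.eval₂ (evHom y.1 V y.2) (σ y)
  have hGc : ContinuousAt G y₀ := hval P.g σ hσc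
  have hG0 : G y₀ ≠ 0 := by
    change P.g.eval₂ (evHom y₀.1 V y₀.2) (σ y₀) ≠ 0
    rw [hσ0]
    exact hg0
  have hGev : ∀ᶠ y in 𝓝 y₀, G y ≠ 0 := hGc.eventually_ne hG0
  have hlift : ∀ y : {y : An.Pts Y // y.pt ∈ V}, ∃ z : An.Pts X, G y ≠ 0 →
      ∃ hz : z.pt ∈ X.basicOpen h,
        (∀ r : Γ(Y, V), z.ev (X.basicOpen h) hz (algebraMap Γ(Y, V) Γ(X, X.basicOpen h) r) =
          y.1.ev V y.2 r) ∧ z.ev (X.basicOpen h) hz P.x = σ y := by
    intro y
    by_cases hGy : G y = 0
    · exact ⟨x, fun h => absurd hGy h⟩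
    obtain ⟨χ', h1, h2⟩ := exists_lift P (evHom y.1 V y.2) (σ y) (hσ1 y) hGy
    have hstr : ∀ c, χ' (strU (X.basicOpen h) c) = c := by
      intro c
      have h3 : strU (X.basicOpen h) c = algebraMap Γ(Y, V) Γ(X, X.basicOpen h) (strU V c) := by
        exact (appLE_strU g V (X.basicOpen h) hle' c).symm
      rw [h3, h1]
      exact ev_strU y.1 V y.2 c
    refine ⟨ofChart hU' χ' hstr, fun _ => ⟨pt_ofChart hU' χ' hstr, fun r => ?_, ?_⟩⟩
    · rw [ev_ofChart, h1]; rfl
    · rw [ev_ofChart, h2]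
  choose ψ hψ using hlift
  have hmapψ : ∀ y, G y ≠ 0 → An.Pts.map g (ψ y) = y.1 := by
    intro y hy
    obtain ⟨hz, h1, -⟩ := hψ y hy
    refine ext_of_ev hV (hmapV _ hz) y.2 fun r => ?_
    rw [← h1 r]
    exact (DFunLike.congr_fun (hcomp (ψ y) hz) r).symm
  have hψ0 : ψ y₀ = x := by
    obtain ⟨hz, h1, h2⟩ := hψ y₀ hG0
    refine ext_of_ev hU' hz hxU' fun s => ?_
    have h3 : evHom (ψ y₀) (X.basicOpen h) hz = evHom x (X.basicOpen h) hxU' := by
      refine ext_standard P _ _ (fun r => ?_) ?_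
      · refine (h1 r).trans ?_
        exact (DFunLike.congr_fun (hcomp x hxU') r).symm
      · refine h2.trans hσ0
    exact DFunLike.congr_fun h3 s
  have hψc : ContinuousAt ψ y₀ := by
    refine continuousAt_of_affine_all ψ y₀ (X.basicOpen h) hU' ?_ fun s => ?_
    · filter_upwards [hGev] with y hy
      exact (hψ y hy).1
    · obtain ⟨p, n, hpn⟩ := value_eq P s
      have h1 : ContinuousAt (fun y : {y : An.Pts Y // y.pt ∈ V} =>
          p.eval₂ (evHom y.1 V y.2) (σ y) / (G y) ^ n) y₀ :=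
        (hval p σ hσc).div (hGc.pow n) (pow_ne_zero n hG0)
      refine h1.congr ?_
      filter_upwards [hGev] with y hy
      obtain ⟨hz, h2, h3⟩ := hψ y hy
      rw [evAt_of_mem hz]
      have h4 := hpn (evHom (ψ y) (X.basicOpen h) hz)
      have h5 : (evHom (ψ y) (X.basicOpen h) hz).comp
          (algebraMap Γ(Y, V) Γ(X, X.basicOpen h)) = evHom y.1 V y.2 :=
        RingHom.ext fun r => h2 r
      have h6 : evHom (ψ y) (X.basicOpen h) hz P.x = σ y := h3
      rw [h5, h6] at h4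
      rw [div_eq_iff (pow_ne_zero n hy)]
      exact h4.symm
  -- conclusion
  intro s hs
  have hs' : (An.Pts.map g) ⁻¹' s ∈ 𝓝 x := hs
  have h1 : ∀ᶠ y in 𝓝 y₀, y.1 ∈ s := by
    rw [← hψ0] at hs'
    filter_upwards [hψc hs', hGev] with y hy1 hy2
    have h2 : An.Pts.map g (ψ y) ∈ s := hy1
    rwa [hmapψ y hy2] at h2
  have hemb : IsOpenEmbedding (Subtype.val : {y : An.Pts Y // y.pt ∈ V} → An.Pts Y) :=
    (An.Pts.isOpen_preimage_pt V).isOpenEmbedding_subtypeVal
  have h2 : s ∈ 𝓝 (y₀.1) := by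
    rw [← hemb.map_nhds_eq y₀]
    exact h1
  exact h2

/-- An unramified morphism is locally injective on complex points. -/
theorem exists_injOn (g : X ⟶ Y) [g.IsOver An.SC] [FormallyUnramified g] [LocallyOfFiniteType g]
    (x : An.Pts X) : ∃ N : Set (An.Pts X), IsOpen N ∧ x ∈ N ∧ Set.InjOn (An.Pts.map g) N := by
  have hΔ : (Limits.pullback.diagonal g).IsOver An.SC := ⟨by
    change Limits.pullback.diagonal g ≫ Limits.pullback.fst g g ≫ X ↘ An.SC = _
    rw [Limits.pullback.diagonal_fst_assoc]⟩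
  have hopen := (Groth.Agent.An.H871.Imm.isOpenEmbedding_map
    (Limits.pullback.diagonal g)).isOpen_range
  have hD := hopen.preimage (Groth.Agent.An.H863.PtsPullback.continuous_lift g g)
  obtain ⟨W, hW, hWD⟩ := isOpen_induced_iff.1 hD
  have hfst : ∀ z : An.Pts X, An.Pts.map (Limits.pullback.fst g g)
      (An.Pts.map (Limits.pullback.diagonal g) z) = z := fun z => by
    refine Subtype.ext ?_
    simp
  have hsnd : ∀ z : An.Pts X, An.Pts.map (Limits.pullback.snd g g)
      (An.Pts.map (Limits.pullback.diagonal g) z) = z := fun z => by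
    refine Subtype.ext ?_
    simp
  have hxx : ((x, x) : An.Pts X × An.Pts X) ∈ W := by
    have h1 : (⟨(x, x), rfl⟩ : {q : An.Pts X × An.Pts X // An.Pts.map g q.1 = An.Pts.map g q.2}) ∈
        Subtype.val ⁻¹' W := by
      rw [hWD]
      refine ⟨x, ?_⟩
      rw [← Groth.Agent.An.H863.PtsPullback.lift_map g g (An.Pts.map (Limits.pullback.diagonal g) x)]
      congr 1
      refine Subtype.ext (Prod.ext ?_ ?_)
      · exact hfst x
      · exact hsnd x
    exact h1
  obtain ⟨N₁, N₂, hN₁, hN₂, hx₁, hx₂, hN⟩ := isOpen_prod_iff.1 hW x x hxx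
  refine ⟨N₁ ∩ N₂, hN₁.inter hN₂, ⟨hx₁, hx₂⟩, ?_⟩
  intro a ha b hb hab
  have h1 : (⟨(a, b), hab⟩ : {q : An.Pts X × An.Pts X // An.Pts.map g q.1 = An.Pts.map g q.2}) ∈
        Subtype.val ⁻¹' W := hN ⟨ha.1, hb.2⟩
  rw [hWD] at h1
  obtain ⟨z, hz⟩ := h1
  have h2 := congrArg (An.Pts.map (Limits.pullback.fst g g)) hz
  have h3 := congrArg (An.Pts.map (Limits.pullback.snd g g)) hz
  rw [hfst, Groth.Agent.An.H863.PtsPullback.map_fst_lift] at h2
  rw [hsnd, Groth.Agent.An.H863.PtsPullback.map_snd_lift] at h3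
  exact h2.symm.trans h3

/-- An étale morphism induces a local homeomorphism on complex points. -/
theorem isLocalHomeomorph_map (g : X ⟶ Y) [g.IsOver An.SC] [Etale g] :
    IsLocalHomeomorph (An.Pts.map g) := by
  rw [isLocalHomeomorph_iff_isOpenEmbedding_restrict]
  intro x
  obtain ⟨N, hN, hx, hinj⟩ := exists_injOn g x
  refine ⟨N, hN.mem_nhds hx, ?_⟩
  refine IsOpenEmbedding.of_continuous_injective_isOpenMap ?_ ?_ ?_
  · exact (An.Pts.continuous_map g).comp continuous_subtype_val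
  · exact hinj.injective
  · exact (isOpenMap_map g).comp hN.isOpenMap_subtype_val

end Groth.Agent.An.H866.EtLH
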