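import Mathlib.RingTheory.NoetherNormalization
import Mathlib.FieldTheory.Minpoly.IsIntegrallyClosed
import Mathlib.Analysis.Complex.Polynomial.Basic
import Mathlib.RingTheory.Ideal.GoingUp
import Mathlib.RingTheory.Polynomial.UniqueFactorization
import Mathlib.RingTheory.Polynomial.RationalRoot
import Mathlib.Topology.Algebra.MvPolynomial
import Mathlib.Topology.Algebra.Polynomial
import Mathlib.Algebra.MvPolynomial.Funext
import Mathlib.RingTheory.FiniteType
import Mathlib.Topology.Compactness.Compact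

/-!
# Density of the complex points of a nonempty principal open set

For a domain `A` of finite type over `ℂ` and `f ≠ 0` in `A`, the points `x : A →ₐ[ℂ] ℂ` with
`x f ≠ 0` are dense for the topology of pointwise convergence.
-/

set_option autoImplicit false

namespace Groth.Agent.An.H866.AlgDense

open Polynomial Filter Topology

/-- A monic complex polynomial of positive degree has a root at most as big as the `d`-th root of
its constant coefficient. -/
theorem exists_small_root (p : ℂ[X]) (hp : p.Monic) (hd : p.natDegree ≠ 0) :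
    ∃ z : ℂ, p.IsRoot z ∧ ‖z‖ ^ p.natDegree ≤ ‖p.coeff 0‖ := by
  classical
  have hs : p.Splits := IsAlgClosed.splits p
  have hcard : p.roots.card = p.natDegree := (hs.natDegree_eq_card_roots).symm
  have hne : p.roots.toFinset.Nonempty := by
    rw [Finset.nonempty_iff_ne_empty]
    intro h
    apply hd
    rw [← hcard, Multiset.card_eq_zero]
    exact Multiset.toFinset_eq_empty.1 h
  obtain ⟨z, hz, hmin⟩ := Finset.exists_min_image p.roots.toFinset (fun z => ‖z‖) hne
  refine ⟨z, ?_, ?_⟩
  · rw [Multiset.mem_toFinset] at hz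
    exact isRoot_of_mem_roots hz
  · have h0 := hs.coeff_zero_eq_prod_roots_of_monic hp
    rw [h0, norm_mul, norm_pow, norm_neg, norm_one, one_pow, one_mul, ← hcard]
    have h1 : ‖p.roots.prod‖ = (p.roots.map (fun z => ‖z‖)).prod := by
      have := map_multiset_prod (normHom : ℂ →*₀ ℝ) p.roots
      simpa using this
    rw [h1, ← Multiset.prod_replicate, ← Multiset.map_const']
    apply Multiset.prod_map_le_prod_map₀
    · intro i _
      exact norm_nonneg _
    · intro i hi
      exact hmin i (Multiset.mem_toFinset.2 hi)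

/-- Points with values in an algebraically closed field lift along integral maps. -/
theorem exists_algHom_lift {k B A : Type*} [Field k] [IsAlgClosed k] [CommRing B] [CommRing A]
    [Algebra k B] [Algebra k A] (φ : B →ₐ[k] A) (hφ : φ.toRingHom.IsIntegral) (b : B →ₐ[k] k)
    (hb : ∀ c : B, φ c = 0 → b c = 0) : ∃ a : A →ₐ[k] k, ∀ c : B, a (φ c) = b c := by
  let _ : Algebra B A := φ.toRingHom.toAlgebra
  have hint : Algebra.IsIntegral B A := ⟨hφ⟩
  have hbp : (RingHom.ker b).IsPrime := RingHom.ker_isPrime b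
  obtain ⟨Q, -, hQp, hQ⟩ := Ideal.exists_ideal_over_prime_of_isIntegral (S := A)
    (RingHom.ker b) ⊥ (fun c hc => hb c hc)
  have key : ∀ c : B, Ideal.Quotient.mk Q (φ c) = algebraMap k (A ⧸ Q) (b c) := by
    intro c
    have h1 : c - algebraMap k B (b c) ∈ Ideal.comap (algebraMap B A) Q := by
      rw [hQ, RingHom.mem_ker, map_sub, AlgHom.commutes, Algebra.algebraMap_self, RingHom.id_apply,
        sub_self]
    have h2 : φ (c - algebraMap k B (b c)) ∈ Q := h1
    rw [map_sub, AlgHom.commutes] at h2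
    exact Ideal.Quotient.eq.2 h2
  have hI : Algebra.IsIntegral k (A ⧸ Q) := by
    refine ⟨fun y => ?_⟩
    obtain ⟨x, rfl⟩ := Ideal.Quotient.mk_surjective y
    obtain ⟨p, hp, hpx⟩ := hφ x
    refine ⟨p.map b.toRingHom, hp.map _, ?_⟩
    rw [eval₂_map]
    have : (algebraMap k (A ⧸ Q)).comp b.toRingHom = (Ideal.Quotient.mk Q).comp φ.toRingHom := by
      ext c
      exact (key c).symm
    rw [this, ← hom_eval₂, hpx, map_zero]
  have hbij := IsAlgClosed.algebraMap_bijective_of_isIntegral (k := k) (K := A ⧸ Q)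
  let e : k ≃ₐ[k] (A ⧸ Q) := AlgEquiv.ofBijective (Algebra.ofId k (A ⧸ Q)) hbij
  refine ⟨(e.symm : (A ⧸ Q) →ₐ[k] k).comp (Ideal.Quotient.mkₐ k Q), fun c => ?_⟩
  change e.symm (Ideal.Quotient.mk Q (φ c)) = b c
  rw [key, AlgEquiv.symm_apply_eq]
  rfl

/-- The nonvanishing locus of a nonzero polynomial is dense in `ℂⁿ`. -/
theorem neBot_ne_zero {n : ℕ} (D : MvPolynomial (Fin n) ℂ) (hD : D ≠ 0) (a : Fin n → ℂ) :
    (𝓝 a ⊓ 𝓟 {z | MvPolynomial.eval z D ≠ 0}).NeBot := by
  obtain ⟨b, hb⟩ : ∃ b : Fin n → ℂ, MvPolynomial.eval b D ≠ 0 := by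
    by_contra h
    push Not at h
    exact hD (MvPolynomial.funext (fun b => by rw [h b, map_zero]))
  let q : ℂ[X] := MvPolynomial.aeval (fun i => C (a i) + X * C (b i - a i)) D
  have hq : ∀ l : ℂ, q.eval l = MvPolynomial.eval (fun i => a i + l * (b i - a i)) D := by
    intro l
    have h1 : (Polynomial.aeval l).comp
        (MvPolynomial.aeval (R := ℂ) (fun i => (C (a i) + X * C (b i - a i) : ℂ[X])))
        = MvPolynomial.aeval (fun i => a i + l * (b i - a i)) := by
      ext i
      simp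
    have h2 := DFunLike.congr_fun h1 D
    rw [AlgHom.comp_apply] at h2
    rw [← Polynomial.coe_aeval_eq_eval, ← MvPolynomial.coe_aeval_eq_eval]
    exact h2
  have hq0 : q ≠ 0 := by
    intro h
    apply hb
    have h1 := hq 1
    rw [h, eval_zero] at h1
    rw [h1]
    congr 2
    ext i
    ring
  have hev : ∀ᶠ l in 𝓝[≠] (0 : ℂ), q.eval l ≠ 0 := by
    have hfin : {l : ℂ | q.eval l = 0}.Finite := by
      refine (q.roots.toFinset.finite_toSet).subset ?_
      intro l hl
      simpa [hq0] using hl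
    exact (nhdsNE_le_cofinite (0 : ℂ)) hfin.compl_mem_cofinite
  have hcont : Tendsto (fun (l : ℂ) (i : Fin n) => a i + l * (b i - a i)) (𝓝[≠] 0) (𝓝 a) := by
    have : Continuous (fun (l : ℂ) (i : Fin n) => a i + l * (b i - a i)) := by fun_prop
    have h0 := (this.tendsto 0).mono_left (nhdsWithin_le_nhds (s := {0}ᶜ))
    simpa using h0
  refine NeBot.mono (f := Filter.map (fun (l : ℂ) (i : Fin n) => a i + l * (b i - a i)) (𝓝[≠] 0))
    inferInstance (le_inf hcont ?_)
  rw [le_principal_iff, Filter.mem_map]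
  filter_upwards [hev] with l hl
  rw [hq] at hl
  exact hl

/-- A root of a monic complex polynomial is bounded by `1 + ∑ |coefficients|`. -/
theorem norm_root_le (p : ℂ[X]) (hp : p.Monic) (w : ℂ) (hw : p.eval w = 0) :
    ‖w‖ ≤ 1 + ∑ i ∈ Finset.range p.natDegree, ‖p.coeff i‖ := by
  by_cases h1 : ‖w‖ ≤ 1
  · have : 0 ≤ ∑ i ∈ Finset.range p.natDegree, ‖p.coeff i‖ :=
      Finset.sum_nonneg (fun i _ => norm_nonneg _)
    linarith
  push Not at h1
  have h2 : w ^ p.natDegree = - ∑ i ∈ Finset.range p.natDegree, p.coeff i * w ^ i := by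
    rw [eval_eq_sum_range, Finset.sum_range_succ, hp.coeff_natDegree, one_mul] at hw
    linear_combination hw
  by_cases hd : p.natDegree = 0
  · rw [hd, Finset.range_zero, Finset.sum_empty] at h2
    simp at h2
  have h3 : ‖w‖ ^ p.natDegree ≤ (∑ i ∈ Finset.range p.natDegree, ‖p.coeff i‖) *
      ‖w‖ ^ (p.natDegree - 1) := by
    rw [← norm_pow, h2, norm_neg, Finset.sum_mul]
    refine (norm_sum_le _ _).trans (Finset.sum_le_sum fun i hi => ?_)
    rw [norm_mul, norm_pow]
    refine mul_le_mul_of_nonneg_left ?_ (norm_nonneg _)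
    refine pow_le_pow_right₀ h1.le ?_
    have := Finset.mem_range.1 hi
    omega
  have h4 : ‖w‖ ^ p.natDegree = ‖w‖ * ‖w‖ ^ (p.natDegree - 1) := by
    rw [← pow_succ']
    congr 1
    omega
  rw [h4] at h3
  have h5 : 0 < ‖w‖ ^ (p.natDegree - 1) := by positivity
  have h6 := le_of_mul_le_mul_right h3 h5
  linarith

/-- The fibre over a point of a finite `ℂ`-algebra map is finite, on the level of points. -/
theorem finite_fibre {R A : Type*} [CommRing R] [CommRing A] [Algebra ℂ R] [Algebra ℂ A]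
    (g : R →ₐ[ℂ] A) (hg : g.toRingHom.Finite) (a : R →ₐ[ℂ] ℂ) :
    {y : A →ₐ[ℂ] ℂ | ∀ r, y (g r) = a r}.Finite := by
  classical
  let _ : Algebra R A := g.toRingHom.toAlgebra
  have hfin : Module.Finite R A := hg
  obtain ⟨s, hs⟩ := hfin.fg_top
  have hint : ∀ x : A, g.toRingHom.IsIntegralElem x := hg.to_isIntegral
  choose p hpm hp using hint
  let T : Set (s → ℂ) := Set.pi Set.univ
    (fun j => {w : ℂ | ((p j.1).map a.toRingHom).eval w = 0})
  have hT : T.Finite := by
    refine Set.Finite.pi fun j => ?_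
    have h0 : (p j.1).map a.toRingHom ≠ 0 := ((hpm j.1).map _).ne_zero
    refine (((p j.1).map a.toRingHom).roots.toFinset.finite_toSet).subset ?_
    intro w hw
    have hw' : ((p j.1).map a.toRingHom).eval w = 0 := hw
    rw [Finset.mem_coe, Multiset.mem_toFinset, mem_roots h0]
    exact hw'
  refine Set.Finite.of_injOn (f := fun (y : A →ₐ[ℂ] ℂ) (j : s) => y j.1) (t := T) ?_ ?_ hT
  · intro y hy j _
    change ((p j.1).map a.toRingHom).eval (y j.1) = 0
    rw [eval_map]
    have h1 : a.toRingHom = y.toRingHom.comp g.toRingHom := by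
      ext r
      exact (hy r).symm
    rw [h1]
    change eval₂ (y.toRingHom.comp g.toRingHom) (y.toRingHom j.1) (p j.1) = 0
    rw [← hom_eval₂, hp, map_zero]
  · intro y hy y' hy' h
    have h2 : ∀ x : A, x ∈ Submodule.span R (s : Set A) → y x = y' x := by
      intro x hx
      induction hx using Submodule.span_induction with
      | mem x hx => exact congrFun h ⟨x, hx⟩
      | zero => simp
      | add x x' _ _ h1 h2 => rw [map_add, map_add, h1, h2]
      | smul r x _ h1 =>
        rw [Algebra.smul_def, map_mul, map_mul, h1]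
        congr 1
        exact (hy r).trans (hy' r).symm
    ext x
    exact h2 x (hs ▸ Submodule.mem_top)

/-- An element separating a point from finitely many others. -/
theorem exists_separating {A : Type*} [CommRing A] [Algebra ℂ A] (F : Set (A →ₐ[ℂ] ℂ))
    (hF : F.Finite) (x₀ : A →ₐ[ℂ] ℂ) :
    ∃ t : A, x₀ t = 0 ∧ ∀ y ∈ F, y t = 0 → y = x₀ := by
  classical
  have h1 : ∀ y : A →ₐ[ℂ] ℂ, ∃ t : A, x₀ t = 0 ∧ (y ≠ x₀ → y t = 1) := by
    intro y
    by_cases hy : y = x₀
    · exact ⟨0, map_zero _, fun h => absurd hy h⟩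
    · obtain ⟨s, hs⟩ : ∃ s, y s ≠ x₀ s := by
        by_contra h
        push Not at h
        exact hy (AlgHom.ext h)
      refine ⟨(s - algebraMap ℂ A (x₀ s)) * algebraMap ℂ A ((y s - x₀ s)⁻¹), ?_, fun _ => ?_⟩
      · rw [map_mul, map_sub, AlgHom.commutes, Algebra.algebraMap_self, RingHom.id_apply, sub_self,
          zero_mul]
      · rw [map_mul, map_sub, AlgHom.commutes, AlgHom.commutes, Algebra.algebraMap_self,
          RingHom.id_apply, RingHom.id_apply, mul_inv_cancel₀ (sub_ne_zero.2 hs)]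
  choose t ht0 ht1 using h1
  refine ⟨1 - ∏ y ∈ hF.toFinset.erase x₀, (1 - t y), ?_, ?_⟩
  · rw [map_sub, map_one, map_prod, Finset.prod_eq_one, sub_self]
    intro y _
    rw [map_sub, map_one, ht0, sub_zero]
  · intro y hy hyt
    by_contra hne
    have hmem : y ∈ hF.toFinset.erase x₀ := by
      rw [Finset.mem_erase, Set.Finite.mem_toFinset]
      exact ⟨hne, hy⟩
    rw [map_sub, map_one, map_prod, Finset.prod_eq_zero hmem, sub_zero] at hyt
    · exact one_ne_zero hyt
    · rw [map_sub, map_one, ht1 y hne, sub_self]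

/-- **Density**: in a domain `A` of finite type over `ℂ`, every point `x₀ : A → ℂ` is a limit of
points where a given nonzero `f` does not vanish. -/
theorem exists_close (A : Type*) [CommRing A] [IsDomain A] [Algebra ℂ A] [Algebra.FiniteType ℂ A]
    (f : A) (hf : f ≠ 0) (x₀ : A →ₐ[ℂ] ℂ) (S : Finset A) (ε : ℝ) (hε : 0 < ε) :
    ∃ x : A →ₐ[ℂ] ℂ, x f ≠ 0 ∧ ∀ s ∈ S, ‖x s - x₀ s‖ < ε := by
  classical
  obtain ⟨n, g, hginj, hgfin⟩ := exists_finite_inj_algHom_of_fg ℂ A
  let _ : Algebra (MvPolynomial (Fin n) ℂ) A := g.toRingHom.toAlgebra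
  have hint : ∀ x : A, IsIntegral (MvPolynomial (Fin n) ℂ) x := hgfin.to_isIntegral
  have hfs : Function.Injective (algebraMap (MvPolynomial (Fin n) ℂ) A) := hginj
  have : FaithfulSMul (MvPolynomial (Fin n) ℂ) A :=
    (faithfulSMul_iff_algebraMap_injective _ _).2 hfs
  -- the base point
  let a : Fin n → ℂ := fun i => x₀ (g (MvPolynomial.X i))
  have ha : ∀ r, x₀ (g r) = MvPolynomial.aeval a r := by
    intro r
    have : x₀.comp g = MvPolynomial.aeval a := by
      ext i
      simp [a]
    exact DFunLike.congr_fun this r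
  -- a multiple of f downstairs
  obtain ⟨D, hD0, c, hc⟩ : ∃ D : MvPolynomial (Fin n) ℂ, D ≠ 0 ∧ ∃ c : A, g D = f * c := by
    have h1 := Ideal.comap_ne_bot_of_integral_mem (R := MvPolynomial (Fin n) ℂ)
      (I := Ideal.span {f}) hf (Ideal.mem_span_singleton_self f) (hint f)
    obtain ⟨D, hD, hD0⟩ := Submodule.exists_mem_ne_zero_of_ne_bot h1
    refine ⟨D, hD0, ?_⟩
    obtain ⟨c, hc⟩ := Ideal.mem_span_singleton.1 (Ideal.mem_comap.1 hD)
    exact ⟨c, hc⟩
  -- separating element
  obtain ⟨t, ht0, htF⟩ := exists_separating _ (finite_fibre g hgfin (MvPolynomial.aeval a)) x₀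
  set P := minpoly (MvPolynomial (Fin n) ℂ) t with hP
  have hPm : P.Monic := minpoly.monic (hint t)
  have hPd : P.natDegree ≠ 0 := (minpoly.natDegree_pos (hint t)).ne'
  -- the lifts
  have hlift : ∀ z : Fin n → ℂ, ∃ y : A →ₐ[ℂ] ℂ, (∀ r, y (g r) = MvPolynomial.aeval z r) ∧
      ‖y t‖ ^ P.natDegree ≤ ‖MvPolynomial.aeval z (P.coeff 0)‖ := by
    intro z
    let ez : MvPolynomial (Fin n) ℂ →ₐ[ℂ] ℂ := MvPolynomial.aeval z
    have hm : (P.map ez.toRingHom).Monic := hPm.map _
    have hdeg : (P.map ez.toRingHom).natDegree = P.natDegree := hPm.natDegree_map _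
    obtain ⟨τ, hτ, hτ'⟩ := exists_small_root (P.map ez.toRingHom) hm (by rw [hdeg]; exact hPd)
    rw [hdeg, coeff_map] at hτ'
    let φ : (MvPolynomial (Fin n) ℂ)[X] →ₐ[ℂ] A := eval₂AlgHom g t (fun _ => Commute.all _ _)
    let b : (MvPolynomial (Fin n) ℂ)[X] →ₐ[ℂ] ℂ := eval₂AlgHom ez τ (fun _ => Commute.all _ _)
    have hφ : φ.toRingHom.IsIntegral := by
      intro x
      obtain ⟨p, hp, hpx⟩ := hint x
      refine ⟨p.map C, hp.map _, ?_⟩
      rw [eval₂_map]
      have h3 : φ.toRingHom.comp C = algebraMap (MvPolynomial (Fin n) ℂ) A := by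
        refine RingHom.ext fun r => ?_
        change φ (C r) = g r
        simp [φ]
      rw [h3]
      exact hpx
    obtain ⟨y, hy⟩ := exists_algHom_lift φ hφ b (by
      intro q hq
      have h4 : aeval t q = 0 := hq
      obtain ⟨q', rfl⟩ := minpoly.isIntegrallyClosed_dvd (hint t) h4
      rw [map_mul]
      have h5 : b P = 0 := by
        have h6 := hτ
        rw [IsRoot, eval_map] at h6
        exact h6
      rw [h5, zero_mul])
    refine ⟨y, fun r => ?_, ?_⟩
    · have h7 := hy (C r)
      have h8 : φ (C r) = g r := by simp [φ]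
      have h9 : b (C r) = ez r := by simp [b]
      rw [h8, h9] at h7
      exact h7
    · have h7 := hy X
      have h8 : φ X = t := by simp [φ]
      have h9 : b X = τ := by simp [b]
      rw [h8, h9] at h7
      rw [h7]
      exact hτ'
  choose Y hYg hYt using hlift
  -- the ultrafilter
  have hNB := neBot_ne_zero D hD0 a
  let U : Ultrafilter (Fin n → ℂ) := Ultrafilter.of (𝓝 a ⊓ 𝓟 {z | MvPolynomial.eval z D ≠ 0})
  have hU1 : (U : Filter (Fin n → ℂ)) ≤ 𝓝 a := (Ultrafilter.of_le _).trans inf_le_left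
  have hU2 : ∀ᶠ z in (U : Filter (Fin n → ℂ)), MvPolynomial.eval z D ≠ 0 :=
    (Ultrafilter.of_le _).trans inf_le_right (mem_principal_self _)
  have hcontR : ∀ r : MvPolynomial (Fin n) ℂ,
      Tendsto (fun z => MvPolynomial.aeval z r) (U : Filter (Fin n → ℂ))
        (𝓝 (MvPolynomial.aeval a r)) := by
    intro r
    have h1 : Continuous (fun z : Fin n → ℂ => MvPolynomial.eval z r) :=
      MvPolynomial.continuous_eval r
    exact (h1.tendsto a).mono_left hU1
  -- limits exist
  have hlim : ∀ s : A, ∃ l : ℂ, Tendsto (fun z => Y z s) (U : Filter (Fin n → ℂ)) (𝓝 l) := by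
    intro s
    obtain ⟨p, hp, hps⟩ := hint s
    let N : (Fin n → ℂ) → ℝ := fun z => 1 + ∑ i ∈ Finset.range p.natDegree,
      ‖MvPolynomial.aeval z (p.coeff i)‖
    have hN : Tendsto N (U : Filter (Fin n → ℂ)) (𝓝 (N a)) := by
      refine tendsto_const_nhds.add ?_
      exact tendsto_finsetSum _ (fun i _ => (hcontR _).norm)
    have hbd : ∀ z, ‖Y z s‖ ≤ N z := by
      intro z
      let ez : MvPolynomial (Fin n) ℂ →ₐ[ℂ] ℂ := MvPolynomial.aeval z
      have h1 : (p.map ez.toRingHom).eval (Y z s) = 0 := by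
        rw [eval_map]
        have h2 : ez.toRingHom = (Y z).toRingHom.comp g.toRingHom := by
          refine RingHom.ext fun r => ?_
          exact (hYg z r).symm
        rw [h2]
        change eval₂ ((Y z).toRingHom.comp g.toRingHom) ((Y z).toRingHom s) p = 0
        rw [← hom_eval₂]
        have h3 : eval₂ g.toRingHom s p = 0 := hps
        rw [h3, map_zero]
      have h2 := norm_root_le _ (hp.map ez.toRingHom) _ h1
      rw [hp.natDegree_map] at h2
      simp only [coeff_map] at h2
      exact h2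
    have hev : ∀ᶠ z in (U : Filter (Fin n → ℂ)), Y z s ∈ Metric.closedBall (0 : ℂ) (N a + 1) := by
      have h1 : ∀ᶠ z in (U : Filter (Fin n → ℂ)), N z < N a + 1 :=
        hN.eventually (gt_mem_nhds (by linarith))
      filter_upwards [h1] with z hz
      rw [mem_closedBall_zero_iff]
      exact (hbd z).trans hz.le
    obtain ⟨l, -, hl⟩ := (isCompact_closedBall (0 : ℂ) (N a + 1)).ultrafilter_le_nhds
      (U.map (fun z => Y z s)) (by rw [le_principal_iff]; exact hev)
    exact ⟨l, hl⟩
  choose L hL using hlim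
  let y : A →ₐ[ℂ] ℂ :=
    { toFun := L
      map_one' := tendsto_nhds_unique (hL 1) (by simp only [map_one]; exact tendsto_const_nhds)
      map_zero' := tendsto_nhds_unique (hL 0) (by simp only [map_zero]; exact tendsto_const_nhds)
      map_mul' := fun s s' => tendsto_nhds_unique (hL (s * s'))
        (by simp only [map_mul]; exact (hL s).mul (hL s'))
      map_add' := fun s s' => tendsto_nhds_unique (hL (s + s'))
        (by simp only [map_add]; exact (hL s).add (hL s'))
      commutes' := fun r => tendsto_nhds_unique (hL _)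
        (by simp only [AlgHom.commutes]; exact tendsto_const_nhds) }
  have hy1 : ∀ r, y (g r) = MvPolynomial.aeval a r := by
    intro r
    refine tendsto_nhds_unique (hL (g r)) ?_
    simp only [hYg]
    exact hcontR r
  have hy2 : y t = 0 := by
    have h1 : Tendsto (fun z => ‖Y z t‖ ^ P.natDegree) (U : Filter (Fin n → ℂ))
      (𝓝 (‖y t‖ ^ P.natDegree)) := ((hL t).norm).pow _
    have h2 : Tendsto (fun z => ‖MvPolynomial.aeval z (P.coeff 0)‖) (U : Filter (Fin n → ℂ))
      (𝓝 ‖MvPolynomial.aeval a (P.coeff 0)‖) := (hcontR _).norm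
    have h3 := le_of_tendsto_of_tendsto' h1 h2 hYt
    have h4 : MvPolynomial.aeval a (P.coeff 0) = (0 : ℂ) := by
      have h5 : eval₂ g.toRingHom t P = 0 := minpoly.aeval _ t
      have h6 := congrArg x₀.toRingHom h5
      rw [hom_eval₂, map_zero] at h6
      have h7 : x₀.toRingHom t = 0 := ht0
      rw [h7, eval₂_at_zero] at h6
      rw [← ha]
      exact h6
    rw [h4, norm_zero] at h3
    have h5 : ‖y t‖ ^ P.natDegree = 0 := le_antisymm h3 (by positivity)
    exact norm_eq_zero.1 (pow_eq_zero_iff hPd |>.1 h5)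
  have hyx : y = x₀ := htF y hy1 hy2
  have hfinal : ∀ᶠ z in (U : Filter (Fin n → ℂ)), ∀ s ∈ S, ‖Y z s - x₀ s‖ < ε := by
    rw [Finset.eventually_all]
    intro s _
    have h1 : Tendsto (fun z => ‖Y z s - x₀ s‖) (U : Filter (Fin n → ℂ)) (𝓝 ‖y s - x₀ s‖) :=
      ((hL s).sub_const _).norm
    rw [hyx, sub_self, norm_zero] at h1
    exact h1.eventually (gt_mem_nhds hε)
  obtain ⟨z, hz1, hz2⟩ := (hU2.and hfinal).exists
  refine ⟨Y z, ?_, hz2⟩
  intro h
  apply hz1
  have h1 := hYg z D
  rw [hc, map_mul, h, zero_mul] at h1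
  exact h1.symm

end Groth.Agent.An.H866.AlgDense
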