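import Groth.Agent.An.H863.FF
import Groth.Agent.An.H869.Conn
import Groth.Agent.An.H866.EtLH
import Groth.Prelude.Def_FEt
import Mathlib.AlgebraicGeometry.Morphisms.Finite

/-!
# Algebraic spaces over `X(ℂ)`

`IsAlg p` for a continuous map `p : E → X(ℂ)`: `E` is the space of complex points of a finite étale
`X`-scheme.  Base change, comparison with `FEt.Cat`, full faithfulness in convenient form.
-/

set_option autoImplicit false
open CategoryTheory AlgebraicGeometry Topology TopologicalSpace Opposite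

noncomputable section

namespace Groth.Agent.An.H866.AlgCov

/-- Data exhibiting `p : E → X(ℂ)` as the space of complex points of a finite étale `X`-scheme. -/
structure AlgData {X : Scheme.{0}} [X.Over An.SC] {E : Type} [TopologicalSpace E]
    (p : E → An.Pts X) where
  /-- the scheme -/
  Y : Scheme.{0}
  [over : Y.Over An.SC]
  /-- the structure morphism -/
  π : Y ⟶ X
  [isOver : π.IsOver An.SC]
  [isFinite : IsFinite π]
  [etale : Etale π]
  /-- the homeomorphism -/
  e : An.Pts Y ≃ₜ E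
  comm : ∀ a, p (e a) = An.Pts.map π a

attribute [instance] AlgData.over AlgData.isOver AlgData.isFinite AlgData.etale

/-- `p : E → X(ℂ)` is the space of complex points of a finite étale `X`-scheme. -/
def IsAlg {X : Scheme.{0}} [X.Over An.SC] {E : Type} [TopologicalSpace E]
    (p : E → An.Pts X) : Prop := Nonempty (AlgData p)

variable {X X' : Scheme.{0}} [X.Over An.SC] [X'.Over An.SC] {E E' : Type} [TopologicalSpace E]
  [TopologicalSpace E']

/-- The form used in the milestone. -/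
theorem IsAlg.exists_fet {p : E → An.Pts X} (h : IsAlg p) :
    ∃ (Y : FEt.Cat X) (e : An.Pts Y.left ≃ₜ E), ∀ a : An.Pts Y.left,
      p (e a) = An.Pts.map (Y.left ↘ X) a := by
  obtain ⟨A⟩ := h
  let Y : FEt.Cat X := MorphismProperty.Over.mk ⊤ A.π ⟨A.isFinite, A.etale⟩
  have h1 : A.π ≫ (X ↘ An.SC) = A.Y ↘ An.SC := comp_over A.π An.SC
  let i₁ : A.Y.Over An.SC := ⟨A.π ≫ X ↘ An.SC⟩
  have h2 : @CategoryTheory.over _ _ A.Y An.SC i₁ = @CategoryTheory.over _ _ A.Y An.SC A.over := h1
  let c : @An.Pts A.Y i₁ ≃ₜ @An.Pts A.Y A.over :=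
    { toFun := An.Pts.cast i₁ A.over h2
      invFun := An.Pts.cast A.over i₁ h2.symm
      left_inv := fun a => rfl
      right_inv := fun a => rfl
      continuous_toFun := (An.Pts.cast i₁ A.over h2).continuous
      continuous_invFun := (An.Pts.cast A.over i₁ h2.symm).continuous }
  refine ⟨Y, c.trans A.e, fun a => ?_⟩
  change p (A.e (c a)) = _
  rw [A.comm]
  exact Subtype.ext rfl

theorem IsAlg.of_fet {p : E → An.Pts X} (Y : FEt.Cat X) (e : An.Pts Y.left ≃ₜ E)
    (h : ∀ a : An.Pts Y.left, p (e a) = An.Pts.map (Y.left ↘ X) a) : IsAlg p :=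
  have h1 : IsFinite (Y.left ↘ X) := Y.prop.1
  have h2 : Etale (Y.left ↘ X) := Y.prop.2
  ⟨{ Y := Y.left, π := Y.left ↘ X, e := e, comm := h }⟩

theorem IsAlg.iff_fet {p : E → An.Pts X} :
    IsAlg p ↔ ∃ (Y : FEt.Cat X) (e : An.Pts Y.left ≃ₜ E), ∀ a : An.Pts Y.left,
      p (e a) = An.Pts.map (Y.left ↘ X) a :=
  ⟨IsAlg.exists_fet, fun ⟨Y, e, h⟩ => IsAlg.of_fet Y e h⟩

/-- Transport along a homeomorphism over `X(ℂ)`. -/
def AlgData.congr {p : E → An.Pts X} (A : AlgData p) {p' : E' → An.Pts X} (h : E ≃ₜ E')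
    (hp : ∀ a, p' (h a) = p a) : AlgData p' where
  Y := A.Y
  π := A.π
  e := A.e.trans h
  comm a := (hp _).trans (A.comm a)

theorem IsAlg.congr {p : E → An.Pts X} (A : IsAlg p) {p' : E' → An.Pts X} (h : E ≃ₜ E')
    (hp : ∀ a, p' (h a) = p a) : IsAlg p' :=
  ⟨A.some.congr h hp⟩

/-- The pullback of `p : E → X(ℂ)` along a morphism `g : X' → X`. -/
abbrev PB (g : X' ⟶ X) [g.IsOver An.SC] (p : E → An.Pts X) : Type :=
  {z : An.Pts X' × E // An.Pts.map g z.1 = p z.2}

/-- The projection of the pullback. -/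
def PB.fst (g : X' ⟶ X) [g.IsOver An.SC] (p : E → An.Pts X) : PB g p → An.Pts X' := fun z => z.1.1

/-- The other projection of the pullback. -/
def PB.snd (g : X' ⟶ X) [g.IsOver An.SC] (p : E → An.Pts X) : PB g p → E := fun z => z.1.2

theorem PB.condition (g : X' ⟶ X) [g.IsOver An.SC] (p : E → An.Pts X) (z : PB g p) :
    An.Pts.map g (PB.fst g p z) = p (PB.snd g p z) := z.2

theorem PB.continuous_fst (g : X' ⟶ X) [g.IsOver An.SC] (p : E → An.Pts X) :
    Continuous (PB.fst g p) := _root_.continuous_fst.comp continuous_subtype_val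

theorem PB.continuous_snd (g : X' ⟶ X) [g.IsOver An.SC] (p : E → An.Pts X) :
    Continuous (PB.snd g p) := _root_.continuous_snd.comp continuous_subtype_val

/-- Homeomorphism of pullbacks induced by a homeomorphism over the base. -/
def PB.homeo (g : X' ⟶ X) [g.IsOver An.SC] {p : E → An.Pts X} {p' : E' → An.Pts X} (h : E ≃ₜ E')
    (hp : ∀ a, p' (h a) = p a) : PB g p ≃ₜ PB g p' where
  toFun z := ⟨(z.1.1, h z.1.2), by rw [hp]; exact z.2⟩
  invFun z := ⟨(z.1.1, h.symm z.1.2), by rw [← hp, h.apply_symm_apply]; exact z.2⟩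
  left_inv z := Subtype.ext (Prod.ext rfl (h.symm_apply_apply _))
  right_inv z := Subtype.ext (Prod.ext rfl (h.apply_symm_apply _))
  continuous_toFun := by fun_prop
  continuous_invFun := by fun_prop

/-- Base change of algebraic data. -/
def AlgData.pullback (g : X' ⟶ X) [g.IsOver An.SC] {p : E → An.Pts X} (A : AlgData p) :
    AlgData (PB.fst g p) where
  Y := Limits.pullback g A.π
  π := Limits.pullback.fst g A.π
  isFinite := inferInstance
  etale := inferInstance
  e := (Groth.Agent.An.H863.PtsPullback.homeo g A.π).trans (PB.homeo g A.e A.comm)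
  comm _ := rfl

theorem IsAlg.pullback (g : X' ⟶ X) [g.IsOver An.SC] {p : E → An.Pts X} (A : IsAlg p) :
    IsAlg (PB.fst g p) := ⟨A.some.pullback g⟩

/-- Full faithfulness, in the form of existence of a morphism. -/
theorem exists_hom {X U V : Scheme.{0}} [X.Over An.SC] [U.Over An.SC] [V.Over An.SC]
    [LocallyOfFiniteType (U ↘ An.SC)]
    (u : U ⟶ X) (v : V ⟶ X) [u.IsOver An.SC] [v.IsOver An.SC] [Etale v] [IsSeparated v]
    (φ : An.Pts U → An.Pts V) (hφ : Continuous φ)
    (hover : ∀ a, An.Pts.map v (φ a) = An.Pts.map u a) :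
    ∃ g : U ⟶ V, g ≫ v = u ∧ ∀ a : An.Pts U, a.1 ≫ g = (φ a).1 :=
  Groth.Agent.An.H863.FF.exists_hom u v Groth.Agent.An.H869.Conn.conn
    (EtLH.isLocalHomeomorph_map v).isLocallyInjective φ hφ hover

/-- Full faithfulness, in the form of uniqueness of a morphism. -/
theorem hom_ext {X U V : Scheme.{0}} [U.Over An.SC] [LocallyOfFiniteType (U ↘ An.SC)]
    (v : V ⟶ X) [Etale v]
    (g g' : U ⟶ V) (hg : g ≫ v = g' ≫ v) (h : ∀ a : An.Pts U, a.1 ≫ g = a.1 ≫ g') : g = g' :=
  Groth.Agent.An.H863.FF.hom_ext_of_pts v g g' hg h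

end Groth.Agent.An.H866.AlgCov
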