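import Groth.Agent.FlatA.DimFin
import Mathlib.AlgebraicGeometry.Morphisms.Finite
import Mathlib.Topology.KrullDimension
import Mathlib.RingTheory.Spectrum.Prime.Topology

/-!
# The dimension does not increase in a finite morphism to an affine scheme
-/

set_option autoImplicit false
open CategoryTheory AlgebraicGeometry

universe u

namespace Groth.Agent.An.H866.T2Dim

theorem topologicalKrullDim_of_isAffine (S : Scheme.{u}) [IsAffine S] :
    topologicalKrullDim S = ringKrullDim Γ(S, ⊤) := by
  have h1 : topologicalKrullDim S = topologicalKrullDim (Spec Γ(S, ⊤)) :=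
    IsHomeomorph.topologicalKrullDim_eq _ S.isoSpec.hom.homeomorph.isHomeomorph
  rw [h1]
  exact PrimeSpectrum.topologicalKrullDim_eq_ringKrullDim _

theorem topologicalKrullDim_le {S' S : Scheme.{u}} [IsAffine S] (ρ : S' ⟶ S) [IsFinite ρ] :
    topologicalKrullDim S' ≤ topologicalKrullDim S := by
  have hS' : IsAffine S' := isAffine_of_isAffineHom ρ
  rw [topologicalKrullDim_of_isAffine, topologicalKrullDim_of_isAffine]
  have h1 : (ρ.appTop).hom.Finite := ρ.finite_app ⊤ (isAffineOpen_top _)
  let _ : Algebra Γ(S, ⊤) Γ(S', ⊤) := ρ.appTop.hom.toAlgebra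
  have h2 : Algebra.IsIntegral Γ(S, ⊤) Γ(S', ⊤) := ⟨h1.to_isIntegral⟩
  exact Groth.Agent.FlatA.DimFin.ringKrullDim_le_of_isIntegral _ _

end Groth.Agent.An.H866.T2Dim
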