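import Groth.Agent.An.H866.AlgCov
import Groth.Prelude.Def_Desc

/-!
# Descent of algebraicity along a surjective morphism

Let `g : X' → X` be a morphism of schemes locally of finite type over `ℂ`, and `p : E → X(ℂ)` a
local homeomorphism whose pullback to `X'` is algebraic.  We construct the descent datum on the
finite étale cover `Y' → X'`, and if it is effective, we descend `p`.
-/

set_option autoImplicit false
open CategoryTheory AlgebraicGeometry Topology TopologicalSpace Opposite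

noncomputable section

namespace Groth.Agent.An.H866.AlgDesc

open AlgCov

variable {X X' : Scheme.{0}} [X.Over An.SC] [X'.Over An.SC] {E : Type} [TopologicalSpace E]
  (g : X' ⟶ X) [g.IsOver An.SC] {p : E → An.Pts X} (A : AlgData (PB.fst g p))

/-- The second component of the point of the pullback attached to a point of `Y'`. -/
def eps (y : An.Pts A.Y) : E := PB.snd g p (A.e y)

theorem continuous_eps : Continuous (eps g A) := (PB.continuous_snd g p).comp A.e.continuous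

theorem eps_spec (y : An.Pts A.Y) : p (eps g A y) = An.Pts.map g (An.Pts.map A.π y) := by
  have h1 : PB.fst g p (A.e y) = An.Pts.map A.π y := A.comm y
  rw [← h1]
  exact (PB.condition g p _).symm

/-- A point of `Y'` is determined by its image and by `eps`. -/
theorem ext_eps {y y' : An.Pts A.Y} (h1 : An.Pts.map A.π y = An.Pts.map A.π y')
    (h2 : eps g A y = eps g A y') : y = y' := by
  apply A.e.injective
  refine Subtype.ext (Prod.ext ?_ h2)
  have h3 := A.comm y
  have h4 := A.comm y'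
  exact h3.trans (h1.trans h4.symm)

/-- The point of `Y'` with given image and given `eps`. -/
def mkPt (x : An.Pts X') (ε : E) (h : An.Pts.map g x = p ε) : An.Pts A.Y := A.e.symm ⟨(x, ε), h⟩

theorem map_mkPt (x : An.Pts X') (ε : E) (h : An.Pts.map g x = p ε) :
    An.Pts.map A.π (mkPt g A x ε h) = x := by
  rw [← A.comm, mkPt, A.e.apply_symm_apply]
  rfl

theorem eps_mkPt (x : An.Pts X') (ε : E) (h : An.Pts.map g x = p ε) :
    eps g A (mkPt g A x ε h) = ε := by
  rw [eps, mkPt, A.e.apply_symm_apply]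
  rfl

/-- The first pullback of `Y'` to `X' ×_X X'`. -/
abbrev P1 : Scheme.{0} := Limits.pullback (Limits.pullback.fst g g) A.π

/-- The map `Y' ×_X X' → X'`. -/
abbrev u1 : P1 g A ⟶ X' :=
  Limits.pullback.fst (Limits.pullback.fst g g) A.π ≫ Limits.pullback.snd g g

instance : (u1 g A).IsOver An.SC := inferInstance

theorem psi_aux (z : An.Pts (P1 g A)) :
    An.Pts.map g (An.Pts.map (u1 g A) z) =
      p (eps g A (An.Pts.map (Limits.pullback.snd (Limits.pullback.fst g g) A.π) z)) := by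
  refine Eq.trans ?_ (eps_spec g A _).symm
  refine Subtype.ext ?_
  simp only [An.Pts.map_val, Category.assoc]
  rw [← Limits.pullback.condition_assoc, Limits.pullback.condition]

/-- The gluing map on complex points. -/
def psi (z : An.Pts (P1 g A)) : An.Pts A.Y :=
  mkPt g A (An.Pts.map (u1 g A) z)
    (eps g A (An.Pts.map (Limits.pullback.snd (Limits.pullback.fst g g) A.π) z)) (psi_aux g A z)

theorem continuous_psi : Continuous (psi g A) := by
  refine A.e.symm.continuous.comp (Continuous.subtype_mk ?_ _)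
  exact (An.Pts.continuous_map _).prodMk
    ((continuous_eps g A).comp (An.Pts.continuous_map _))

variable [LocallyOfFiniteType (X' ↘ An.SC)] [LocallyOfFiniteType g]

instance locallyOfFiniteType_P1 : LocallyOfFiniteType (P1 g A ↘ An.SC) := by
  change LocallyOfFiniteType (Limits.pullback.fst (Limits.pullback.fst g g) A.π ≫
    Limits.pullback.fst g g ≫ X' ↘ An.SC)
  infer_instance

theorem exists_Phi : ∃ Φ : P1 g A ⟶ A.Y, Φ ≫ A.π = u1 g A ∧
    ∀ z : An.Pts (P1 g A), z.1 ≫ Φ = (psi g A z).1 :=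
  exists_hom (u1 g A) A.π (psi g A) (continuous_psi g A) (fun z => map_mkPt g A _ _ _)

/-- The gluing morphism. -/
def Phi : P1 g A ⟶ A.Y := (exists_Phi g A).choose

theorem Phi_over : Phi g A ≫ A.π = u1 g A := (exists_Phi g A).choose_spec.1

theorem Phi_pts (z : An.Pts (P1 g A)) : z.1 ≫ Phi g A = (psi g A z).1 :=
  (exists_Phi g A).choose_spec.2 z

/-- The gluing map on `T`-points. -/
def glue {T : Scheme.{0}} (x₀ x₁ : T ⟶ X') (h : x₀ ≫ g = x₁ ≫ g) (v : T ⟶ A.Y)
    (hv : v ≫ A.π = x₀) : T ⟶ A.Y :=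
  Limits.pullback.lift (Limits.pullback.lift x₀ x₁ h) v
    (by rw [Limits.pullback.lift_fst]; exact hv.symm) ≫ Phi g A

theorem glue_over {T : Scheme.{0}} (x₀ x₁ : T ⟶ X') (h : x₀ ≫ g = x₁ ≫ g) (v : T ⟶ A.Y)
    (hv : v ≫ A.π = x₀) : glue g A x₀ x₁ h v hv ≫ A.π = x₁ := by
  rw [glue, Category.assoc, Phi_over, u1, Limits.pullback.lift_fst_assoc,
    Limits.pullback.lift_snd]

theorem comp_glue {T T' : Scheme.{0}} (f : T' ⟶ T) (x₀ x₁ : T ⟶ X') (h : x₀ ≫ g = x₁ ≫ g)
    (v : T ⟶ A.Y) (hv : v ≫ A.π = x₀) (h' : (f ≫ x₀) ≫ g = (f ≫ x₁) ≫ g)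
    (hv' : (f ≫ v) ≫ A.π = f ≫ x₀) :
    glue g A (f ≫ x₀) (f ≫ x₁) h' (f ≫ v) hv' = f ≫ glue g A x₀ x₁ h v hv := by
  rw [glue, glue, ← Category.assoc]
  congr 1
  apply Limits.pullback.hom_ext
  · rw [Limits.pullback.lift_fst, Category.assoc, Limits.pullback.lift_fst]
    apply Limits.pullback.hom_ext
    · rw [Limits.pullback.lift_fst, Category.assoc, Limits.pullback.lift_fst]
    · rw [Limits.pullback.lift_snd, Category.assoc, Limits.pullback.lift_snd]
  · rw [Limits.pullback.lift_snd, Category.assoc, Limits.pullback.lift_snd]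

theorem glue_congr {T : Scheme.{0}} {x₀ x₁ x₀' x₁' : T ⟶ X'} (h : x₀ ≫ g = x₁ ≫ g)
    (h' : x₀' ≫ g = x₁' ≫ g) {v v' : T ⟶ A.Y}
    (hv : v ≫ A.π = x₀) (hv' : v' ≫ A.π = x₀') (e₀ : x₀ = x₀') (e₁ : x₁ = x₁') (e : v = v') :
    glue g A x₀ x₁ h v hv = glue g A x₀' x₁' h' v' hv' := by
  subst e₀ e₁ e
  rfl

/-- The gluing map on complex points, computed. -/
theorem glue_pts (x₀ x₁ : An.Pts X') (h : x₀.1 ≫ g = x₁.1 ≫ g) (v : An.Pts A.Y)
    (hv : v.1 ≫ A.π = x₀.1) (h' : An.Pts.map g x₁ = p (eps g A v)) :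
    glue g A x₀.1 x₁.1 h v.1 hv = (mkPt g A x₁ (eps g A v) h').1 := by
  have h1 : (Limits.pullback.lift (Limits.pullback.lift x₀.1 x₁.1 h) v.1
      (by rw [Limits.pullback.lift_fst]; exact hv.symm) : An.SC ⟶ P1 g A) ≫
      (P1 g A ↘ An.SC) = 𝟙 _ := by
    change _ ≫ (Limits.pullback.fst (Limits.pullback.fst g g) A.π ≫
      Limits.pullback.fst g g ≫ X' ↘ An.SC) = 𝟙 _
    rw [Limits.pullback.lift_fst_assoc, Limits.pullback.lift_fst_assoc]
    exact x₀.2
  have h2 := Phi_pts g A ⟨_, h1⟩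
  rw [glue, h2]
  congr 1
  refine ext_eps g A ?_ ?_
  · rw [psi, map_mkPt, map_mkPt]
    refine Subtype.ext ?_
    rw [An.Pts.map_val, u1, Limits.pullback.lift_fst_assoc, Limits.pullback.lift_snd]
  · rw [psi, eps_mkPt, eps_mkPt]
    congr 1
    refine Subtype.ext ?_
    rw [An.Pts.map_val, Limits.pullback.lift_snd]

theorem mkPt_eq_self (v : An.Pts A.Y) (h : An.Pts.map g (An.Pts.map A.π v) = p (eps g A v)) :
    mkPt g A (An.Pts.map A.π v) (eps g A v) h = v := by
  refine ext_eps g A ?_ ?_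
  · rw [map_mkPt]
  · rw [eps_mkPt]

/-- The gluing map is the identity on the diagonal: universal case. -/
theorem glue_self_univ : glue g A A.π A.π rfl (𝟙 A.Y) (Category.id_comp _) = 𝟙 A.Y := by
  have hft : LocallyOfFiniteType (A.Y ↘ An.SC) := by
    rw [← comp_over A.π An.SC]
    infer_instance
  refine hom_ext A.π _ _ ?_ fun a => ?_
  · rw [glue_over, Category.id_comp]
  · have h1 : a.1 ≫ A.π = (An.Pts.map A.π a).1 := rfl
    have h2 : An.Pts.map g (An.Pts.map A.π a) = p (eps g A a) := (eps_spec g A a).symm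
    rw [← comp_glue g A a.1 A.π A.π rfl (𝟙 A.Y) (Category.id_comp _) rfl
      (by rw [Category.comp_id])]
    have h3 := glue_pts g A (An.Pts.map A.π a) (An.Pts.map A.π a) rfl a rfl h2
    rw [mkPt_eq_self] at h3
    refine Eq.trans ?_ (h3.trans (Category.comp_id _).symm)
    exact glue_congr g A _ _ _ _ rfl rfl (Category.comp_id _)

/-- The gluing map is the identity on the diagonal. -/
theorem glue_self {T : Scheme.{0}} (x : T ⟶ X') (v : T ⟶ A.Y) (hv : v ≫ A.π = x) :
    glue g A x x rfl v hv = v := by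
  have h1 := comp_glue g A v A.π A.π rfl (𝟙 A.Y) (Category.id_comp _) rfl
    (by rw [Category.comp_id])
  rw [glue_self_univ] at h1
  refine Eq.trans ?_ (h1.trans (Category.comp_id _))
  exact glue_congr g A _ _ _ _ hv.symm hv.symm (Category.comp_id _).symm

/-- The universal scheme for the cocycle condition. -/
abbrev P2 : Scheme.{0} := Limits.pullback (u1 g A ≫ g) g

instance : (u1 g A ≫ g).IsOver An.SC := inferInstance

instance locallyOfFiniteType_P2 : LocallyOfFiniteType (P2 g A ↘ An.SC) := by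
  change LocallyOfFiniteType (Limits.pullback.fst (u1 g A ≫ g) g ≫ P1 g A ↘ An.SC)
  infer_instance

/-- The cocycle condition for a scheme locally of finite type over `ℂ`. -/
theorem glue_comp_ft {T : Scheme.{0}} [T.Over An.SC] [LocallyOfFiniteType (T ↘ An.SC)]
    (x₀ x₁ x₂ : T ⟶ X') [x₀.IsOver An.SC] [x₁.IsOver An.SC] [x₂.IsOver An.SC]
    (h₀₁ : x₀ ≫ g = x₁ ≫ g) (h₁₂ : x₁ ≫ g = x₂ ≫ g)
    (v : T ⟶ A.Y) [v.IsOver An.SC] (hv : v ≫ A.π = x₀) :
    glue g A x₁ x₂ h₁₂ (glue g A x₀ x₁ h₀₁ v hv) (glue_over g A x₀ x₁ h₀₁ v hv) =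
      glue g A x₀ x₂ (h₀₁.trans h₁₂) v hv := by
  refine hom_ext A.π _ _ ?_ fun a => ?_
  · rw [glue_over, glue_over]
  · have hg0 : a.1 ≫ x₀ = (An.Pts.map x₀ a).1 := rfl
    have e₀₁ : (An.Pts.map x₀ a).1 ≫ g = (An.Pts.map x₁ a).1 ≫ g := by
      simp only [An.Pts.map_val, Category.assoc, h₀₁]
    have e₁₂ : (An.Pts.map x₁ a).1 ≫ g = (An.Pts.map x₂ a).1 ≫ g := by
      simp only [An.Pts.map_val, Category.assoc, h₁₂]
    have ev : (An.Pts.map v a).1 ≫ A.π = (An.Pts.map x₀ a).1 := by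
      simp only [An.Pts.map_val, Category.assoc, hv]
    have k0 : p (eps g A (An.Pts.map v a)) = An.Pts.map g (An.Pts.map x₀ a) := by
      refine (eps_spec g A _).trans ?_
      congr 1
      exact Subtype.ext ev
    have k1 : An.Pts.map g (An.Pts.map x₁ a) = p (eps g A (An.Pts.map v a)) := by
      rw [k0]; exact Subtype.ext e₀₁.symm
    have k2 : An.Pts.map g (An.Pts.map x₂ a) = p (eps g A (An.Pts.map v a)) := by
      rw [← k1]; exact Subtype.ext e₁₂.symm
    -- the point obtained after the first gluing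
    set w : An.Pts A.Y := mkPt g A (An.Pts.map x₁ a) (eps g A (An.Pts.map v a)) k1 with hw
    have hw1 : a.1 ≫ glue g A x₀ x₁ h₀₁ v hv = w.1 := by
      rw [← comp_glue g A a.1 x₀ x₁ h₀₁ v hv e₀₁ ev]
      exact glue_pts g A _ _ e₀₁ (An.Pts.map v a) ev k1
    have hwe : eps g A w = eps g A (An.Pts.map v a) := eps_mkPt g A _ _ _
    have hwπ : w.1 ≫ A.π = (An.Pts.map x₁ a).1 := by
      have := map_mkPt g A _ _ k1
      exact congrArg Subtype.val this
    have k2' : An.Pts.map g (An.Pts.map x₂ a) = p (eps g A w) := by rw [hwe]; exact k2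
    have s1 : a.1 ≫ glue g A x₁ x₂ h₁₂ (glue g A x₀ x₁ h₀₁ v hv) (glue_over g A x₀ x₁ h₀₁ v hv) =
        (mkPt g A (An.Pts.map x₂ a) (eps g A w) k2').1 := by
      rw [← comp_glue g A a.1 x₁ x₂ h₁₂ _ _ e₁₂ (by rw [hw1]; exact hwπ)]
      rw [← glue_pts g A _ _ e₁₂ w hwπ k2']
      exact glue_congr g A _ _ _ _ rfl rfl hw1
    have s2 : a.1 ≫ glue g A x₀ x₂ (h₀₁.trans h₁₂) v hv =
        (mkPt g A (An.Pts.map x₂ a) (eps g A (An.Pts.map v a)) k2).1 := by
      rw [← comp_glue g A a.1 x₀ x₂ _ v hv (e₀₁.trans e₁₂) ev]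
      exact glue_pts g A _ _ (e₀₁.trans e₁₂) (An.Pts.map v a) ev k2
    rw [s1, s2]
    congr 2

/-- The cocycle condition. -/
theorem glue_comp {T : Scheme.{0}} (x₀ x₁ x₂ : T ⟶ X')
    (h₀₁ : x₀ ≫ g = x₁ ≫ g) (h₁₂ : x₁ ≫ g = x₂ ≫ g) (v : T ⟶ A.Y) (hv : v ≫ A.π = x₀) :
    glue g A x₁ x₂ h₁₂ (glue g A x₀ x₁ h₀₁ v hv) (glue_over g A x₀ x₁ h₀₁ v hv) =
      glue g A x₀ x₂ (h₀₁.trans h₁₂) v hv := by
  -- the universal case
  let b : P2 g A ⟶ P1 g A := Limits.pullback.fst (u1 g A ≫ g) g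
  have : b.IsOver An.SC := inferInstanceAs ((Limits.pullback.fst (u1 g A ≫ g) g).IsOver An.SC)
  let y₀ : P2 g A ⟶ X' := b ≫ Limits.pullback.fst (Limits.pullback.fst g g) A.π ≫
    Limits.pullback.fst g g
  let y₁ : P2 g A ⟶ X' := b ≫ u1 g A
  let y₂ : P2 g A ⟶ X' := Limits.pullback.snd (u1 g A ≫ g) g
  let w : P2 g A ⟶ A.Y := b ≫ Limits.pullback.snd (Limits.pullback.fst g g) A.π
  have hy₀ : y₀.IsOver An.SC := inferInstanceAs
    ((b ≫ Limits.pullback.fst (Limits.pullback.fst g g) A.π ≫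
      Limits.pullback.fst g g).IsOver An.SC)
  have hy₁ : y₁.IsOver An.SC := inferInstanceAs ((b ≫ u1 g A).IsOver An.SC)
  have hy₂ : y₂.IsOver An.SC :=
    inferInstanceAs ((Limits.pullback.snd (u1 g A ≫ g) g).IsOver An.SC)
  have hwO : w.IsOver An.SC :=
    inferInstanceAs ((b ≫ Limits.pullback.snd (Limits.pullback.fst g g) A.π).IsOver An.SC)
  have k₀₁ : y₀ ≫ g = y₁ ≫ g := by
    simp only [y₀, y₁, u1, Category.assoc]
    rw [Limits.pullback.condition (f := g) (g := g)]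
  have k₁₂ : y₁ ≫ g = y₂ ≫ g := by
    refine (Category.assoc _ _ _).trans ?_
    exact Limits.pullback.condition
  have kw : w ≫ A.π = y₀ := by
    refine (Category.assoc _ _ _).trans ?_
    rw [← Limits.pullback.condition]
  have key := glue_comp_ft g A y₀ y₁ y₂ k₀₁ k₁₂ w kw
  -- the classifying map
  let t₁ : T ⟶ P1 g A := Limits.pullback.lift (Limits.pullback.lift x₀ x₁ h₀₁) v
    (by rw [Limits.pullback.lift_fst]; exact hv.symm)
  have ht₁ : t₁ ≫ u1 g A = x₁ := by
    rw [u1, Limits.pullback.lift_fst_assoc, Limits.pullback.lift_snd]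
  let t : T ⟶ P2 g A := Limits.pullback.lift t₁ x₂ (by
    rw [← Category.assoc, ht₁]; exact h₁₂)
  have htb : t ≫ b = t₁ := Limits.pullback.lift_fst _ _ _
  have e₀ : t ≫ y₀ = x₀ := by
    rw [← Category.assoc, htb, Limits.pullback.lift_fst_assoc, Limits.pullback.lift_fst]
  have e₁ : t ≫ y₁ = x₁ := by
    rw [← Category.assoc, htb, ht₁]
  have e₂ : t ≫ y₂ = x₂ := Limits.pullback.lift_snd _ _ _
  have ew : t ≫ w = v := by
    rw [← Category.assoc, htb, Limits.pullback.lift_snd]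
  clear_value t t₁
  subst e₀ e₁ e₂ ew
  rw [comp_glue g A t y₀ y₂ (k₀₁.trans k₁₂) w kw, ← key,
    ← comp_glue g A t y₁ y₂ k₁₂ _ (glue_over g A y₀ y₁ k₀₁ w kw) h₁₂
      (by rw [Category.assoc, glue_over])]
  refine glue_congr g A _ _ _ _ rfl rfl ?_
  exact comp_glue g A t y₀ y₁ k₀₁ w kw _ _

/-- The descent datum on the finite étale cover `Y' → X'`. -/
def dd : Desc.SchDD g where
  obj := Over.mk A.π
  φ _ x₀ x₁ h :=
    { toFun := fun v => ⟨glue g A x₀ x₁ h v.1 v.2, glue_over g A x₀ x₁ h v.1 v.2⟩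
      invFun := fun v => ⟨glue g A x₁ x₀ h.symm v.1 v.2, glue_over g A x₁ x₀ h.symm v.1 v.2⟩
      left_inv := fun v => Subtype.ext
        ((glue_comp g A x₀ x₁ x₀ h h.symm v.1 v.2).trans (glue_self g A x₀ v.1 v.2))
      right_inv := fun v => Subtype.ext
        ((glue_comp g A x₁ x₀ x₁ h.symm h v.1 v.2).trans (glue_self g A x₁ v.1 v.2)) }
  φ_natural T T' f x₀ x₁ h h' v v' hv' := by
    obtain ⟨v', hv''⟩ := v'
    change v' = f ≫ v.1 at hv'
    subst hv'
    exact comp_glue g A f x₀ x₁ h v.1 v.2 h' hv''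
  φ_self T x v := Subtype.ext (glue_self g A x v.1 v.2)
  φ_comp T x₀ x₁ x₂ h₀₁ h₁₂ v := Subtype.ext (glue_comp g A x₀ x₁ x₂ h₀₁ h₁₂ v.1 v.2)

section effective

variable (U : Over X) (θ : (Desc.toDD g).obj U ≅ dd g A)

/-- The isomorphism `X' ×_X U ≅ Y'` over `X'`. -/
def rho : Limits.pullback g U.hom ⟶ A.Y := θ.hom.hom.left

/-- Its inverse. -/
def sigma : A.Y ⟶ Limits.pullback g U.hom := θ.inv.hom.left

theorem rho_over : rho g A U θ ≫ A.π = Limits.pullback.fst g U.hom := Over.w θ.hom.hom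

theorem sigma_over : sigma g A U θ ≫ Limits.pullback.fst g U.hom = A.π := Over.w θ.inv.hom

theorem rho_sigma : rho g A U θ ≫ sigma g A U θ = 𝟙 _ :=
  congrArg (fun f => f.hom.left) θ.hom_inv_id

theorem sigma_rho : sigma g A U θ ≫ rho g A U θ = 𝟙 _ :=
  congrArg (fun f => f.hom.left) θ.inv_hom_id

theorem rho_comm {T : Scheme.{0}} (x₀ x₁ : T ⟶ X') (h : x₀ ≫ g = x₁ ≫ g)
    (w : T ⟶ Limits.pullback g U.hom) (hw : w ≫ Limits.pullback.fst g U.hom = x₀)
    (h' : x₁ ≫ g = (w ≫ Limits.pullback.snd g U.hom) ≫ U.hom)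
    (hv : (w ≫ rho g A U θ) ≫ A.π = x₀) :
    glue g A x₀ x₁ h (w ≫ rho g A U θ) hv =
      Limits.pullback.lift x₁ (w ≫ Limits.pullback.snd g U.hom) h' ≫ rho g A U θ :=
  θ.hom.comm x₀ x₁ h ⟨w, hw⟩ ⟨w ≫ rho g A U θ, hv⟩ rfl

include A θ in
/-- If the descent datum is effective, then `p` is algebraic. -/
theorem isAlg_of_effective [IsFinite U.hom] [Etale U.hom] (hp : IsLocalHomeomorph p)
    (hs : Function.Surjective (An.Pts.map g))
    (hq : ∀ (Z : Scheme.{0}) [Z.Over An.SC] (k : Z ⟶ X) [k.IsOver An.SC] [Etale k],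
      IsQuotientMap (An.Pts.map (Limits.pullback.snd g k))) : IsAlg p := by
  let iU : U.left.Over An.SC := ⟨U.hom ≫ X ↘ An.SC⟩
  let iU' : Scheme.Hom.IsOver (X := U.left) (Y := X) U.hom An.SC := ⟨rfl⟩
  let k : U.left ⟶ X := U.hom
  have hk : Etale k := ‹Etale U.hom›
  have hkf : IsFinite k := ‹IsFinite U.hom›
  have hkO : k.IsOver An.SC := iU'
  let W : Scheme.{0} := Limits.pullback g k
  let f₁ : W ⟶ X' := Limits.pullback.fst g k
  let f₂ : W ⟶ U.left := Limits.pullback.snd g k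
  have hf₁ : f₁.IsOver An.SC := inferInstanceAs ((Limits.pullback.fst g k).IsOver An.SC)
  have hf₂ : f₂.IsOver An.SC := inferInstanceAs ((Limits.pullback.snd g k).IsOver An.SC)
  let ρ : W ⟶ A.Y := rho g A U θ
  have hρπ : ρ ≫ A.π = f₁ := rho_over g A U θ
  have hρO : ρ.IsOver An.SC := ⟨by
    rw [← comp_over A.π An.SC, ← Category.assoc, hρπ, comp_over]⟩
  let σ : A.Y ⟶ W := sigma g A U θ
  have hσf : σ ≫ f₁ = A.π := sigma_over g A U θ
  have hσO : σ.IsOver An.SC := ⟨by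
    rw [← comp_over f₁ An.SC, ← Category.assoc, hσf, comp_over]⟩
  have hρσ : ρ ≫ σ = 𝟙 _ := rho_sigma g A U θ
  have hσρ : σ ≫ ρ = 𝟙 _ := sigma_rho g A U θ
  have hcond : f₁ ≫ g = f₂ ≫ k := Limits.pullback.condition
  let H : An.Pts W → E := fun w => eps g A (An.Pts.map ρ w)
  have hH : Continuous H := (continuous_eps g A).comp (An.Pts.continuous_map ρ)
  have hHp : ∀ w, p (H w) = An.Pts.map k (An.Pts.map f₂ w) := by
    intro w
    refine (eps_spec g A _).trans ?_
    refine Subtype.ext ?_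
    simp only [An.Pts.map_val, Category.assoc]
    rw [← hcond, ← hρπ, Category.assoc]
  have hHinv : ∀ w w', An.Pts.map f₂ w = An.Pts.map f₂ w' → H w = H w' := by
    intro w w' hww'
    have e₂ : w.1 ≫ f₂ = w'.1 ≫ f₂ := congrArg Subtype.val hww'
    have e₀₁ : (An.Pts.map f₁ w).1 ≫ g = (An.Pts.map f₁ w').1 ≫ g := by
      simp only [An.Pts.map_val, Category.assoc, hcond]
      rw [← Category.assoc, ← Category.assoc, e₂]
    have e₃ : (An.Pts.map f₁ w').1 ≫ g = (w.1 ≫ f₂) ≫ k := by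
      rw [e₂]
      simp only [An.Pts.map_val, Category.assoc, hcond]
    have e₄ : (An.Pts.map ρ w).1 ≫ A.π = (An.Pts.map f₁ w).1 := by
      simp only [An.Pts.map_val, Category.assoc, hρπ]
    have e₅ : An.Pts.map g (An.Pts.map f₁ w') = p (eps g A (An.Pts.map ρ w)) := by
      refine Eq.trans ?_ (hHp w).symm
      refine Subtype.ext ?_
      rw [An.Pts.map_val, e₃]
      rfl
    have c1 := rho_comm g A U θ (An.Pts.map f₁ w).1 (An.Pts.map f₁ w').1 e₀₁ w.1 rfl e₃ e₄
    have c2 : Limits.pullback.lift (An.Pts.map f₁ w').1 (w.1 ≫ f₂) e₃ = w'.1 := by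
      apply Limits.pullback.hom_ext
      · rw [Limits.pullback.lift_fst]; rfl
      · rw [Limits.pullback.lift_snd]; exact e₂
    have c3 := glue_pts g A (An.Pts.map f₁ w) (An.Pts.map f₁ w') e₀₁ (An.Pts.map ρ w) e₄ e₅
    have c4 : (An.Pts.map ρ w').1 = (mkPt g A (An.Pts.map f₁ w') (eps g A (An.Pts.map ρ w)) e₅).1 := by
      refine Eq.trans ?_ (c1.symm.trans c3)
      change w'.1 ≫ ρ = _
      rw [← c2]
    have c5 : An.Pts.map ρ w' = mkPt g A (An.Pts.map f₁ w') (eps g A (An.Pts.map ρ w)) e₅ :=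
      Subtype.ext c4
    change eps g A (An.Pts.map ρ w) = eps g A (An.Pts.map ρ w')
    rw [c5, eps_mkPt]
  have hq' : IsQuotientMap (An.Pts.map f₂) := hq U.left k
  have hq'' : IsQuotientMap (An.Pts.mapC f₂) := hq'
  have hfac : Function.FactorsThrough (⟨H, hH⟩ : C(An.Pts W, E)) (An.Pts.mapC f₂) :=
    fun w w' hww' => hHinv w w' hww'
  let h : C(An.Pts U.left, E) := hq''.lift ⟨H, hH⟩ hfac
  have hh : ∀ w, h (An.Pts.map f₂ w) = H w := fun w =>
    DFunLike.congr_fun (hq''.lift_comp ⟨H, hH⟩ hfac) w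
  have hph : ∀ u, p (h u) = An.Pts.map k u := by
    intro u
    obtain ⟨w, rfl⟩ := hq'.surjective u
    rw [hh, hHp]
  have hinj : Function.Injective h := by
    intro u u' huu'
    obtain ⟨x, hx⟩ := hs (An.Pts.map k u)
    have hx' : An.Pts.map g x = An.Pts.map k u' := by rw [hx, ← hph, huu', hph]
    let w : An.Pts W := Groth.Agent.An.H863.PtsPullback.lift g k ⟨(x, u), hx⟩
    let w' : An.Pts W := Groth.Agent.An.H863.PtsPullback.lift g k ⟨(x, u'), hx'⟩
    have hw1 : An.Pts.map f₁ w = x := Groth.Agent.An.H863.PtsPullback.map_fst_lift g k _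
    have hw2 : An.Pts.map f₂ w = u := Groth.Agent.An.H863.PtsPullback.map_snd_lift g k _
    have hw1' : An.Pts.map f₁ w' = x := Groth.Agent.An.H863.PtsPullback.map_fst_lift g k _
    have hw2' : An.Pts.map f₂ w' = u' := Groth.Agent.An.H863.PtsPullback.map_snd_lift g k _
    have h1 : H w = H w' := by rw [← hh, ← hh, hw2, hw2', huu']
    have h2 : An.Pts.map ρ w = An.Pts.map ρ w' := by
      refine ext_eps g A ?_ h1
      have h3 : ∀ z : An.Pts W, An.Pts.map A.π (An.Pts.map ρ z) = An.Pts.map f₁ z := fun z => by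
        refine Subtype.ext ?_
        simp only [An.Pts.map_val, Category.assoc, hρπ]
      rw [h3, h3, hw1, hw1']
    have h4 : w = w' := by
      have h5 : ∀ z : An.Pts W, An.Pts.map σ (An.Pts.map ρ z) = z := fun z => by
        refine Subtype.ext ?_
        simp only [An.Pts.map_val, Category.assoc, hρσ, Category.comp_id]
      rw [← h5 w, h2, h5]
    rw [← hw2, h4, hw2']
  have hsurj : Function.Surjective h := by
    intro ε
    obtain ⟨x, hx⟩ := hs (p ε)
    refine ⟨An.Pts.map f₂ (An.Pts.map σ (mkPt g A x ε hx)), ?_⟩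
    rw [hh]
    change eps g A (An.Pts.map ρ (An.Pts.map σ (mkPt g A x ε hx))) = ε
    have h5 : ∀ z : An.Pts A.Y, An.Pts.map ρ (An.Pts.map σ z) = z := fun z => by
      refine Subtype.ext ?_
      simp only [An.Pts.map_val, Category.assoc, hσρ, Category.comp_id]
    rw [h5, eps_mkPt]
  have hlh : IsLocalHomeomorph h := by
    refine IsLocalHomeomorph.of_comp ?_ hp h.continuous
    have h6 : p ∘ h = An.Pts.map k := funext hph
    rw [h6]
    exact EtLH.isLocalHomeomorph_map k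
  exact ⟨{ Y := U.left, π := k,
           e := (Equiv.ofBijective h ⟨hinj, hsurj⟩).toHomeomorphOfContinuousOpen h.continuous
              hlh.isOpenMap
           comm := hph }⟩

end effective

end Groth.Agent.An.H866.AlgDesc
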