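import Groth.Agent.An.H866.AlgDesc
import Groth.Agent.An.H875.ProperMap
import Groth.Agent.An.H871.Surj
import Groth.Agent.Sga1.ProperDesc

/-!
# Descent of algebraicity: proper surjective and étale surjective morphisms
-/

set_option autoImplicit false
open CategoryTheory AlgebraicGeometry Topology TopologicalSpace Opposite

noncomputable section

namespace Groth.Agent.An.H866.AlgDesc2

open AlgCov AlgDesc

section effective

open CategoryTheory.Limits

set_option backward.isDefEq.respectTransparency false
set_option backward.isDefEq.respectTransparency.types false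

open _root_.Desc Groth.Agent.Desc.SecFunctor Groth.Agent.Desc.SecPresheaf
  Groth.Agent.Desc.SecDescent Groth.Agent.Desc.ZarGlue Groth.Agent.Desc.LocalRep

universe u

/-- Étale surjective morphisms (not necessarily quasi-compact) are effective for finite étale
descent data. -/
theorem effective_etale {X S : Scheme.{u}} (p : X ⟶ S) [Etale p] [Surjective p]
    (D : SchDD p) [IsFinite D.obj.hom] [Etale D.obj.hom] :
    ∃ U : Over S, IsFinite U.hom ∧ Etale U.hom ∧ Nonempty ((toDD p).obj U ≅ D) := by
  have := Groth.Agent.Desc.MorDescent.descendsAlong_isFinite.{u}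
  obtain ⟨U, hU, ⟨r⟩⟩ := exists_rep_of_local_prop (secFunctor D)
    (Groth.Agent.Desc.ZarSec.isZarSheaf_secFunctor D) (fun g h1 h2 => isDesc_secFunctor D g (by
      intro Z z
      infer_instance)) (@IsFinite ⊓ @Etale : MorphismProperty Scheme.{u}) (fun f hf => by
        have h1 := hf.1
        have h2 := hf.2
        exact Groth.Agent.Desc.LqfQAff.isQuasiAffine_of_etale f) (fun s => by
          obtain ⟨x, hx⟩ := p.surjective s
          exact ⟨Over.mk p, ‹Etale p›, x, hx, D.obj, ⟨‹_›, ‹_›⟩, ⟨restrRep D⟩⟩)
  exact ⟨U, hU.1, hU.2, effective_of_representableBy r⟩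

end effective

variable {X X' : Scheme.{0}} [X.Over An.SC] [X'.Over An.SC] {E : Type} [TopologicalSpace E]

section

variable [LocallyOfFiniteType (X' ↘ An.SC)] [LocallyOfFiniteType (X ↘ An.SC)]
  (g : X' ⟶ X) [g.IsOver An.SC] {p : E → An.Pts X}

/-- Surjectivity on complex points, without quasi-compactness. -/
theorem surjective_map [Surjective g] : Function.Surjective (An.Pts.map g) := by
  intro y
  exact Groth.Agent.An.H871.Surj.exists_map_eq_of_mem_range g y (g.surjective y.pt)

/-- Descent along a proper surjective morphism. -/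
theorem isAlg_of_proper [IsProper g] [Surjective g] (hp : IsLocalHomeomorph p)
    (h : IsAlg (PB.fst g p)) : IsAlg p := by
  obtain ⟨A⟩ := h
  have := Groth.Agent.An.H871.Surj.locallyOfFinitePresentation g
  have h1 : IsFinite (dd g A).obj.hom := A.isFinite
  have h2 : Etale (dd g A).obj.hom := A.etale
  obtain ⟨U, hU1, hU2, ⟨θ⟩⟩ := Groth.Agent.Sga1.ProperDesc.effective g (dd g A)
  refine isAlg_of_effective g A U θ hp (surjective_map g) ?_
  intro Z _ k _ _
  have hZ : LocallyOfFiniteType (Z ↘ An.SC) := by
    rw [← comp_over k An.SC]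
    infer_instance
  have hP : LocallyOfFiniteType (Limits.pullback g k ↘ An.SC) := by
    change LocallyOfFiniteType (Limits.pullback.fst g k ≫ X' ↘ An.SC)
    infer_instance
  have h3 := Groth.Agent.An.H875.ProperMap.isProperMap_map (Limits.pullback.snd g k)
  exact h3.isClosedMap.isQuotientMap h3.continuous (surjective_map (Limits.pullback.snd g k))

/-- Descent along an étale surjective morphism. -/
theorem isAlg_of_etale [Etale g] [Surjective g] (hp : IsLocalHomeomorph p)
    (h : IsAlg (PB.fst g p)) : IsAlg p := by
  obtain ⟨A⟩ := h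
  have h1 : IsFinite (dd g A).obj.hom := A.isFinite
  have h2 : Etale (dd g A).obj.hom := A.etale
  obtain ⟨U, hU1, hU2, ⟨θ⟩⟩ := effective_etale g (dd g A)
  refine isAlg_of_effective g A U θ hp (surjective_map g) ?_
  intro Z _ k _ _
  have hZ : LocallyOfFiniteType (Z ↘ An.SC) := by
    rw [← comp_over k An.SC]
    infer_instance
  have hP : LocallyOfFiniteType (Limits.pullback g k ↘ An.SC) := by
    change LocallyOfFiniteType (Limits.pullback.fst g k ≫ X' ↘ An.SC)
    infer_instance
  exact (EtLH.isOpenMap_map (Limits.pullback.snd g k)).isQuotientMap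
    (An.Pts.continuous_map _) (surjective_map (Limits.pullback.snd g k))

end

end Groth.Agent.An.H866.AlgDesc2
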