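import Groth.Agent.An.H866.AlgTr
import Groth.Agent.An.H871.Imm
import Mathlib.AlgebraicGeometry.RelativeGluing

/-!
# Zariski gluing of algebraic models

If `p : E → X(ℂ)` is algebraic over the members of an open cover of `X`, it is algebraic.
-/

set_option autoImplicit false
open CategoryTheory AlgebraicGeometry Topology TopologicalSpace Opposite

noncomputable section

namespace Groth.Agent.An.H866.AlgGlue

open AlgCov AlgDesc AlgTr

variable {X : Scheme.{0}} [X.Over An.SC] {E : Type} [TopologicalSpace E]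

/-- Restriction of an algebraic model to a smaller open. -/
theorem isAlg_mono {p : E → An.Pts X} {V W : X.Opens} (hVW : V ≤ W) (h : IsAlg (PB.fst W.ι p)) :
    IsAlg (PB.fst V.ι p) := by
  have hO : (X.homOfLE hVW).IsOver An.SC := ⟨by
    rw [← comp_over W.ι An.SC, ← Category.assoc, X.homOfLE_ι, comp_over]⟩
  have h1 := h.pullback (X.homOfLE hVW)
  have hcomp : ∀ v : An.Pts V.toScheme, An.Pts.map W.ι (An.Pts.map (X.homOfLE hVW) v) =
      An.Pts.map V.ι v := fun v => by
    refine Subtype.ext ?_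
    simp only [An.Pts.map_val, Category.assoc, X.homOfLE_ι]
  let e : PB (X.homOfLE hVW) (PB.fst W.ι p) ≃ₜ PB V.ι p :=
    { toFun := fun z => ⟨(z.1.1, z.1.2.1.2), by
        have h2 : An.Pts.map (X.homOfLE hVW) z.1.1 = z.1.2.1.1 := z.2
        rw [← hcomp, h2]
        exact z.1.2.2⟩
      invFun := fun z => ⟨(z.1.1, ⟨(An.Pts.map (X.homOfLE hVW) z.1.1, z.1.2), by
        rw [hcomp]; exact z.2⟩), rfl⟩
      left_inv := fun z => by
        refine Subtype.ext (Prod.ext rfl (Subtype.ext (Prod.ext ?_ rfl)))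
        exact z.2
      right_inv := fun z => rfl
      continuous_toFun := by fun_prop
      continuous_invFun := by
        refine Continuous.subtype_mk (Continuous.prodMk (by fun_prop)
          (Continuous.subtype_mk (Continuous.prodMk ?_ (by fun_prop)) _)) _
        exact (An.Pts.continuous_map _).comp (by fun_prop) }
  exact h1.congr e (fun _ => rfl)

variable (p : E → An.Pts X)

/-- The opens over which `p` is algebraic. -/
abbrev Idx : Type := {V : X.Opens // IsAlg (PB.fst V.ι p)}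

/-- The chosen algebraic models. -/
def mdl (i : Idx p) : AlgData (PB.fst i.1.ι p) := i.2.some

variable (hcov : ∀ x : X, ∃ V : X.Opens, x ∈ V ∧ IsAlg (PB.fst V.ι p))

/-- The open cover by all opens over which `p` is algebraic. -/
@[simps I₀ X f]
def cov : X.OpenCover where
  I₀ := Idx p
  X i := i.1.toScheme
  f i := i.1.ι
  mem₀ := by
    rw [Scheme.presieve₀_mem_precoverage_iff]
    refine ⟨fun x => ?_, inferInstance⟩
    obtain ⟨V, hV, hV'⟩ := hcov x
    exact ⟨⟨V, hV'⟩, by simpa using hV⟩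

instance : Preorder (cov p hcov).I₀ := inferInstanceAs (Preorder (Idx p))

set_option backward.isDefEq.respectTransparency.types false in
set_option backward.defeqAttrib.useBackward true in
instance : (cov p hcov).LocallyDirected :=
  .ofIsBasisOpensRange (by intros; simp; rfl) <| by
    rw [Opens.isBasis_iff_nbhd]
    intro U x hx
    obtain ⟨V, hV, hV'⟩ := hcov x
    refine ⟨U ⊓ V, ⟨⟨U ⊓ V, isAlg_mono inf_le_right hV'⟩, by simp⟩, ⟨hx, hV⟩, inf_le_left⟩

/-- The transition maps are the inclusions. -/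
theorem cov_trans {i j : (cov p hcov).I₀} (f : i ⟶ j) :
    (cov p hcov).trans f = X.homOfLE (show i.1 ≤ j.1 from leOfHom f) := by
  have h1 : (cov p hcov).trans f ≫ (cov p hcov).f j = (cov p hcov).f i :=
    Scheme.Cover.trans_map (cov p hcov) f
  have h2 : X.homOfLE (show i.1 ≤ j.1 from leOfHom f) ≫ j.1.ι = i.1.ι := X.homOfLE_ι _
  have h3 : Mono ((cov p hcov).f j) := inferInstanceAs (Mono j.1.ι)
  exact (cancel_mono ((cov p hcov).f j)).1 (h1.trans h2.symm)

instance isOver_homOfLE {V W : X.Opens} (h : V ≤ W) : (X.homOfLE h).IsOver An.SC := ⟨by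
    rw [← comp_over W.ι An.SC, ← Category.assoc, X.homOfLE_ι, comp_over]⟩

variable [LocallyOfFiniteType (X ↘ An.SC)]

instance locallyOfFiniteType_opens (V : X.Opens) : LocallyOfFiniteType (V.toScheme ↘ An.SC) :=
  Groth.Agent.An.H871.Imm.locallyOfFiniteType_opens V

theorem exists_tr' {i j : Idx p} (hij : i.1 ≤ j.1) :
    ∃ m : (mdl p i).Y ⟶ (mdl p j).Y, IsTr (mdl p i) (mdl p j) (X.homOfLE hij) m :=
  exists_tr (mdl p i) (mdl p j) (X.homOfLE hij) (X.homOfLE_ι hij)

/-- The transition morphism. -/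
def tr {i j : Idx p} (hij : i.1 ≤ j.1) : (mdl p i).Y ⟶ (mdl p j).Y := (exists_tr' p hij).choose

theorem isTr_tr {i j : Idx p} (hij : i.1 ≤ j.1) :
    IsTr (mdl p i) (mdl p j) (X.homOfLE hij) (tr p hij) := (exists_tr' p hij).choose_spec

theorem tr_id (i : Idx p) : tr p (le_refl i.1) = 𝟙 (mdl p i).Y := by
  have h1 := isTr_tr p (le_refl i.1)
  have h2 : IsTr (mdl p i) (mdl p i) (𝟙 _) (𝟙 (mdl p i).Y) := IsTr.id
  rw [← X.homOfLE_rfl] at h2
  exact h1.unique h2

theorem tr_comp {i j k : Idx p} (hij : i.1 ≤ j.1) (hjk : j.1 ≤ k.1) :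
    tr p (hij.trans hjk) = tr p hij ≫ tr p hjk := by
  have h1 := isTr_tr p (hij.trans hjk)
  have h2 := (isTr_tr p hij).comp (isTr_tr p hjk)
  have h3 : X.homOfLE hij ≫ X.homOfLE hjk = X.homOfLE (hij.trans hjk) := by simp
  refine h1.unique ⟨h2.isOver, ?_, h2.eps_map⟩
  rw [h2.w, h3]

/-- The relative gluing datum. -/
def glueData : (cov p hcov).RelativeGluingData where
  functor :=
    { obj := fun i => (mdl p i).Y
      map := fun {i j} f => tr p (show i.1 ≤ j.1 from leOfHom f)
      map_id := fun i => tr_id p i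
      map_comp := fun {i j k} f g => tr_comp p _ _ }
  natTrans :=
    { app := fun i => (mdl p i).π
      naturality := fun i j f => by
        refine (isTr_tr p (show i.1 ≤ j.1 from leOfHom f)).w.trans ?_
        exact congrArg (fun t => (mdl p i).π ≫ t) (cov_trans p hcov f).symm }
  equifibered := fun i j f => by
    have h1 := (isTr_tr p (show i.1 ≤ j.1 from leOfHom f)).isPullback (X.homOfLE_ι _)
    have h2 : X.homOfLE (show i.1 ≤ j.1 from leOfHom f) = (cov p hcov).trans f :=
      (cov_trans p hcov f).symm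
    rw [h2] at h1
    exact h1

/-- The glued scheme. -/
abbrev Yg : Scheme.{0} := (glueData p hcov).glued

/-- Its structure morphism. -/
def πg : Yg p hcov ⟶ X := (glueData p hcov).toBase

/-- The open pieces. -/
def ιg (i : Idx p) : (mdl p i).Y ⟶ Yg p hcov :=
  Limits.colimit.ι (glueData p hcov).functor (show (cov p hcov).I₀ from i)

theorem isPullback_ιg (i : Idx p) : IsPullback (ιg p hcov i) (mdl p i).π (πg p hcov) i.1.ι :=
  ((glueData p hcov).isPullback_natTrans_ι_toBase (show (cov p hcov).I₀ from i)).flip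

instance isOpenImmersion_ιg (i : Idx p) : IsOpenImmersion (ιg p hcov i) :=
  MorphismProperty.of_isPullback (isPullback_ιg p hcov i).flip inferInstance

theorem tr_ιg {i j : Idx p} (hij : i.1 ≤ j.1) : tr p hij ≫ ιg p hcov j = ιg p hcov i :=
  Limits.colimit.w (glueData p hcov).functor
    (homOfLE hij : (show (cov p hcov).I₀ from i) ⟶ (show (cov p hcov).I₀ from j))

theorem prop_πg (P : MorphismProperty Scheme.{0}) [IsZariskiLocalAtTarget P]
    (hP : ∀ i : Idx p, P (mdl p i).π) : P (πg p hcov) := by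
  refine IsZariskiLocalAtTarget.of_openCover (cov p hcov) fun i => ?_
  have h1 := isPullback_ιg p hcov i
  have h2 : h1.isoPullback.hom ≫ Limits.pullback.snd (πg p hcov) i.1.ι = (mdl p i).π :=
    h1.isoPullback_hom_snd
  have h3 : P (h1.isoPullback.hom ≫ Limits.pullback.snd (πg p hcov) i.1.ι) := by
    rw [h2]; exact hP i
  exact (MorphismProperty.cancel_left_of_respectsIso P _ _).1 h3

instance : IsFinite (πg p hcov) := prop_πg p hcov @IsFinite fun i => (mdl p i).isFinite

instance : Etale (πg p hcov) := prop_πg p hcov @Etale fun i => (mdl p i).etale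

instance overYg : (Yg p hcov).Over An.SC := ⟨πg p hcov ≫ X ↘ An.SC⟩

instance isOver_πg : (πg p hcov).IsOver An.SC := ⟨rfl⟩

instance isOver_ιg (i : Idx p) : (ιg p hcov i).IsOver An.SC := ⟨by
  rw [← comp_over (πg p hcov) An.SC, ← Category.assoc, (isPullback_ιg p hcov i).w,
    Category.assoc, comp_over, comp_over]⟩

theorem map_πg_ιg (i : Idx p) (a : An.Pts (mdl p i).Y) :
    An.Pts.map (πg p hcov) (An.Pts.map (ιg p hcov i) a) =
      An.Pts.map i.1.ι (An.Pts.map (mdl p i).π a) := by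
  refine Subtype.ext ?_
  simp only [An.Pts.map_val, Category.assoc, (isPullback_ιg p hcov i).w]

/-- A point of the glued scheme over `V` comes from the model over `V`. -/
theorem exists_map_ιg (i : Idx p) (y : An.Pts (Yg p hcov))
    (h : (An.Pts.map (πg p hcov) y).pt ∈ i.1) : ∃ a, An.Pts.map (ιg p hcov i) a = y := by
  have h1 : (An.Pts.map (πg p hcov) y) ∈ Set.range (An.Pts.map i.1.ι) := by
    rw [Groth.Agent.An.H871.Imm.range_map_of_isOpenImmersion]
    simpa using h
  obtain ⟨v, hv⟩ := h1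
  have h2 : y.1 ≫ πg p hcov = v.1 ≫ i.1.ι := (congrArg Subtype.val hv).symm
  let a : An.SC ⟶ (mdl p i).Y := (isPullback_ιg p hcov i).lift y.1 v.1 h2
  have ha : a ≫ ιg p hcov i = y.1 := (isPullback_ιg p hcov i).lift_fst _ _ _
  have haO : a ≫ ((mdl p i).Y ↘ An.SC) = 𝟙 _ := by
    rw [← comp_over (ιg p hcov i) An.SC, ← Category.assoc, ha, y.2]
  exact ⟨⟨a, haO⟩, Subtype.ext ha⟩

theorem injective_map_ιg (i : Idx p) : Function.Injective (An.Pts.map (ιg p hcov i)) :=
  Groth.Agent.An.H871.Imm.injective_map_of_mono _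

theorem map_ιg_tr {i j : Idx p} (hij : i.1 ≤ j.1) (a : An.Pts (mdl p i).Y) :
    haveI := (isTr_tr p hij).isOver
    An.Pts.map (ιg p hcov j) (An.Pts.map (tr p hij) a) = An.Pts.map (ιg p hcov i) a := by
  refine Subtype.ext ?_
  simp only [An.Pts.map_val, Category.assoc, tr_ιg]

theorem eps_eq (i j : Idx p) (a : An.Pts (mdl p i).Y) (b : An.Pts (mdl p j).Y)
    (h : An.Pts.map (ιg p hcov i) a = An.Pts.map (ιg p hcov j) b) :
    eps i.1.ι (mdl p i) a = eps j.1.ι (mdl p j) b := by
  let k : Idx p := ⟨i.1 ⊓ j.1, isAlg_mono inf_le_right j.2⟩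
  have hki : k.1 ≤ i.1 := inf_le_left
  have hkj : k.1 ≤ j.1 := inf_le_right
  have h1 : ∀ (i : Idx p) (a : An.Pts (mdl p i).Y),
      (An.Pts.map (πg p hcov) (An.Pts.map (ιg p hcov i) a)).pt ∈ i.1 := fun i a => by
    rw [map_πg_ιg, An.Pts.pt_map]
    exact Subtype.prop _
  have h2 : (An.Pts.map (πg p hcov) (An.Pts.map (ιg p hcov i) a)).pt ∈ k.1 := by
    refine ⟨h1 i a, ?_⟩
    rw [h]
    exact h1 j b
  obtain ⟨c, hc⟩ := exists_map_ιg p hcov k _ h2
  have i1 := (isTr_tr p hki).isOver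
  have i2 := (isTr_tr p hkj).isOver
  have h3 : An.Pts.map (tr p hki) c = a := by
    apply injective_map_ιg p hcov i
    rw [map_ιg_tr, hc]
  have h4 : An.Pts.map (tr p hkj) c = b := by
    apply injective_map_ιg p hcov j
    rw [map_ιg_tr, hc, h]
  rw [← h3, ← h4, (isTr_tr p hki).eps_map, (isTr_tr p hkj).eps_map]

include hcov in
/-- Zariski gluing. -/
theorem isAlg_of_cover (hp : IsLocalHomeomorph p) : IsAlg p := by
  have hex : ∀ y : An.Pts (Yg p hcov), ∃ (i : Idx p) (a : An.Pts (mdl p i).Y),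
      An.Pts.map (ιg p hcov i) a = y := by
    intro y
    obtain ⟨V, hV, hV'⟩ := hcov (An.Pts.map (πg p hcov) y).pt
    obtain ⟨a, ha⟩ := exists_map_ιg p hcov ⟨V, hV'⟩ y hV
    exact ⟨_, a, ha⟩
  choose idx pt hpt using hex
  let h : An.Pts (Yg p hcov) → E := fun y => eps (idx y).1.ι (mdl p (idx y)) (pt y)
  have hh : ∀ (i : Idx p) (a : An.Pts (mdl p i).Y),
      h (An.Pts.map (ιg p hcov i) a) = eps i.1.ι (mdl p i) a := fun i a =>
    eps_eq p hcov _ _ _ _ (hpt _)
  have hph : ∀ y, p (h y) = An.Pts.map (πg p hcov) y := by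
    intro y
    obtain ⟨i, a, rfl⟩ : ∃ i a, An.Pts.map (ιg p hcov i) a = y := ⟨_, _, hpt y⟩
    rw [hh, map_πg_ιg]
    exact eps_spec i.1.ι (mdl p i) a
  have hc : Continuous h := by
    rw [continuous_iff_continuousAt]
    intro y
    obtain ⟨i, a, rfl⟩ : ∃ i a, An.Pts.map (ιg p hcov i) a = y := ⟨_, _, hpt y⟩
    rw [← (Groth.Agent.An.H871.Imm.isOpenEmbedding_map (ιg p hcov i)).continuousAt_iff]
    have h1 : h ∘ An.Pts.map (ιg p hcov i) = eps i.1.ι (mdl p i) := funext (hh i)
    rw [h1]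
    exact (continuous_eps i.1.ι (mdl p i)).continuousAt
  have hinj : Function.Injective h := by
    intro y y' hyy'
    have h1 : An.Pts.map (πg p hcov) y = An.Pts.map (πg p hcov) y' := by
      rw [← hph, ← hph, hyy']
    obtain ⟨V, hV, hV'⟩ := hcov (An.Pts.map (πg p hcov) y).pt
    obtain ⟨a, rfl⟩ := exists_map_ιg p hcov ⟨V, hV'⟩ y hV
    obtain ⟨a', rfl⟩ := exists_map_ιg p hcov ⟨V, hV'⟩ y' (h1 ▸ hV)
    congr 1
    rw [hh, hh] at hyy'
    refine ext_eps V.ι _ ?_ hyy'
    rw [map_πg_ιg, map_πg_ιg] at h1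
    exact Groth.Agent.An.H871.Imm.injective_map_of_mono V.ι h1
  have hsurj : Function.Surjective h := by
    intro ε
    obtain ⟨V, hV, hV'⟩ := hcov (p ε).pt
    have h1 : p ε ∈ Set.range (An.Pts.map V.ι) := by
      rw [Groth.Agent.An.H871.Imm.range_map_of_isOpenImmersion]
      simpa using hV
    obtain ⟨v, hv⟩ := h1
    refine ⟨An.Pts.map (ιg p hcov ⟨V, hV'⟩) (mkPt V.ι (mdl p ⟨V, hV'⟩) v ε hv), ?_⟩
    rw [hh]
    exact eps_mkPt V.ι (mdl p ⟨V, hV'⟩) v ε hv
  have hlh : IsLocalHomeomorph h := by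
    refine IsLocalHomeomorph.of_comp ?_ hp hc
    have h6 : p ∘ h = An.Pts.map (πg p hcov) := funext hph
    rw [h6]
    exact EtLH.isLocalHomeomorph_map (πg p hcov)
  exact ⟨{ Y := Yg p hcov, π := πg p hcov,
           e := (Equiv.ofBijective h ⟨hinj, hsurj⟩).toHomeomorphOfContinuousOpen hc
              hlh.isOpenMap
           comm := hph }⟩

end Groth.Agent.An.H866.AlgGlue
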