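import Mathlib.Topology.Covering.Basic

/-!
# Pullback of a covering map
-/

set_option autoImplicit false
open Topology

namespace Groth.Agent.An.H866.CovPull

variable {T X E : Type*} [TopologicalSpace T] [TopologicalSpace X] [TopologicalSpace E]

/-- Pullback of an evenly covered point. -/
theorem isEvenlyCovered_pullback {p : E → X} {k : T → X} (hk : Continuous k) {t : T} {I : Type*}
    [TopologicalSpace I] (h : IsEvenlyCovered p (k t) I) :
    IsEvenlyCovered (fun z : {z : T × E // k z.1 = p z.2} => z.1.1) t I := by
  obtain ⟨inst, U, hxU, hU, hfU, H, hH⟩ := h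
  have hU' : IsOpen (k ⁻¹' U) := hU.preimage hk
  have hc : Continuous (fun z : {z : T × E // k z.1 = p z.2} => z.1.1) :=
    continuous_fst.comp continuous_subtype_val
  have hH' : ∀ (u : U × I), p (H.symm u).1 = u.1.1 := fun u => by
    rw [← hH, H.apply_symm_apply]
  refine ⟨inst, k ⁻¹' U, hxU, hU', hU'.preimage hc, ?_, ?_⟩
  · exact
    { toFun := fun z => (⟨z.1.1.1, z.2⟩, (H ⟨z.1.1.2, by
        have h1 : k z.1.1.1 ∈ U := z.2
        rw [z.1.2] at h1
        exact h1⟩).2)
      invFun := fun w => ⟨⟨(w.1.1, (H.symm (⟨k w.1.1, w.1.2⟩, w.2)).1), by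
        have h1 := hH' (⟨k w.1.1, w.1.2⟩, w.2)
        exact h1.symm⟩, w.1.2⟩
      left_inv := fun z => by
        refine Subtype.ext (Subtype.ext (Prod.ext rfl ?_))
        have h1 : k z.1.1.1 = p z.1.1.2 := z.1.2
        have h2 : z.1.1.2 ∈ p ⁻¹' U := by
          have h1' : k z.1.1.1 ∈ U := z.2
          rw [h1] at h1'
          exact h1'
        have h3 : ((⟨k z.1.1.1, z.2⟩ : U), (H ⟨z.1.1.2, h2⟩).2) = H ⟨z.1.1.2, h2⟩ := by
          refine Prod.ext (Subtype.ext ?_) rfl
          rw [hH]
          exact h1
        change (H.symm ((⟨k z.1.1.1, z.2⟩ : U), (H ⟨z.1.1.2, h2⟩).2)).1 = z.1.1.2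
        rw [h3, H.symm_apply_apply]
      right_inv := fun w => by
        refine Prod.ext rfl ?_
        change (H (H.symm (⟨k w.1.1, w.1.2⟩, w.2))).2 = w.2
        rw [H.apply_symm_apply]
      continuous_toFun := by
        refine Continuous.prodMk (Continuous.subtype_mk (hc.comp continuous_subtype_val) _) ?_
        refine continuous_snd.comp (H.continuous.comp (Continuous.subtype_mk ?_ _))
        exact continuous_snd.comp (continuous_subtype_val.comp continuous_subtype_val)
      continuous_invFun := by
        refine Continuous.subtype_mk (Continuous.subtype_mk (Continuous.prodMk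
          (continuous_subtype_val.comp continuous_fst) ?_) _) _
        refine continuous_subtype_val.comp (H.symm.continuous.comp (Continuous.prodMk
          (Continuous.subtype_mk ?_ _) continuous_snd))
        exact hk.comp (continuous_subtype_val.comp continuous_fst) }
  · intro z
    rfl

/-- Pullback of a covering map is a covering map. -/
theorem isCoveringMap_pullback {p : E → X} {k : T → X} (hk : Continuous k)
    (h : IsCoveringMap p) :
    IsCoveringMap (fun z : {z : T × E // k z.1 = p z.2} => z.1.1) :=
  fun t => (isEvenlyCovered_pullback hk (h (k t))).to_isEvenlyCovered_preimage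

/-- Fibres of a pullback. -/
theorem finite_fibre_pullback {p : E → X} {k : T → X} (h : ∀ x, (p ⁻¹' {x}).Finite) (t : T) :
    ((fun z : {z : T × E // k z.1 = p z.2} => z.1.1) ⁻¹' {t}).Finite := by
  refine Set.Finite.of_injOn (f := fun z : {z : T × E // k z.1 = p z.2} => z.1.2)
    (t := p ⁻¹' {k t}) ?_ ?_ (h (k t))
  · intro z hz
    have h1 : z.1.1 = t := hz
    have h2 := z.2
    rw [h1] at h2
    exact h2.symm
  · intro z hz z' hz' hzz'
    have h1 : z.1.1 = t := hz
    have h1' : z'.1.1 = t := hz'
    exact Subtype.ext (Prod.ext (h1.trans h1'.symm) hzz')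

end Groth.Agent.An.H866.CovPull
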