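import Mathlib.RingTheory.NoetherNormalization
import Mathlib.RingTheory.DedekindDomain.IntegralClosure
import Mathlib.RingTheory.Polynomial.RationalRoot
import Mathlib.RingTheory.Polynomial.UniqueFactorization
import Mathlib.RingTheory.Localization.Finiteness
import Mathlib.Analysis.Complex.Basic

/-!
# Finiteness of the integral closure for domains of finite type over `ℂ`
-/

set_option autoImplicit false

namespace Groth.Agent.An.H866.NormRing

open nonZeroDivisors

theorem finite_integralClosure (D : Type*) [CommRing D] [IsDomain D] [Algebra ℂ D]
    [Algebra.FiniteType ℂ D] : Module.Finite D (integralClosure D (FractionRing D)) := by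
  obtain ⟨n, g, hginj, hgfin⟩ := exists_finite_inj_algHom_of_fg ℂ D
  let R := MvPolynomial (Fin n) ℂ
  let _ : Algebra R D := g.toRingHom.toAlgebra
  have hfs : FaithfulSMul R D := (faithfulSMul_iff_algebraMap_injective _ _).2 hginj
  have hfin : Module.Finite R D := hgfin
  let K := FractionRing R
  let L := FractionRing D
  let _ : Algebra K L := FractionRing.liftAlgebra R L
  have : IsScalarTower R K L := FractionRing.isScalarTower_liftAlgebra R L
  have : Algebra.IsAlgebraic R D := inferInstance
  have : IsLocalization (Algebra.algebraMapSubmonoid D R⁰) L := inferInstance
  have : Module.Finite K L := Module.Finite.of_isLocalization R D R⁰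
  have : CharZero R := inferInstance
  have : CharZero K := charZero_of_injective_algebraMap (IsFractionRing.injective R K)
  have : Algebra.IsSeparable K L := inferInstance
  have : IsIntegralClosure (integralClosure D L) R L :=
    { algebraMap_injective := Subtype.val_injective
      isIntegral_iff := fun {x} => by
        constructor
        · intro hx
          have h1 : IsIntegral D x := hx.tower_top
          exact ⟨⟨x, h1⟩, rfl⟩
        · rintro ⟨y, rfl⟩
          exact isIntegral_trans (R := R) (A := D) _ y.2 }
  have h1 : Module.Finite R (integralClosure D L) := IsIntegralClosure.finite R K L _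
  exact Module.Finite.of_restrictScalars_finite R D _

end Groth.Agent.An.H866.NormRing
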