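import Groth.Agent.An.H866.AlgGlue
import Groth.Agent.An.H866.AlgDesc2
import Groth.Agent.An.H866.CovPull
import Groth.Agent.An.H866.NormRing
import Mathlib.AlgebraicGeometry.Limits

/-!
# Reduction of Riemann's existence theorem to normal affine varieties
-/

set_option autoImplicit false
open CategoryTheory AlgebraicGeometry Topology TopologicalSpace Opposite

noncomputable section

namespace Groth.Agent.An.H866.AlgNormal

open AlgCov AlgDesc AlgTr AlgGlue

/-- Riemann's existence theorem for a given `X`: every finite covering of `X(ℂ)` is algebraic. -/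
def RE (X : Scheme.{0}) [X.Over An.SC] : Prop :=
  ∀ (E : Type) [TopologicalSpace E] (p : E → An.Pts X), IsCoveringMap p →
    (∀ x : An.Pts X, (p ⁻¹' {x}).Finite) → IsAlg p

section comp

variable {X X₁ X₂ : Scheme.{0}} [X.Over An.SC] [X₁.Over An.SC] [X₂.Over An.SC]
  {E : Type} [TopologicalSpace E]

/-- Iterated base change. -/
theorem isAlg_comp {p : E → An.Pts X} (k : X₁ ⟶ X₂) (g₂ : X₂ ⟶ X) (g₁ : X₁ ⟶ X)
    [k.IsOver An.SC] [g₂.IsOver An.SC] [g₁.IsOver An.SC] (hk : k ≫ g₂ = g₁)
    (h : IsAlg (PB.fst g₂ p)) : IsAlg (PB.fst g₁ p) := by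
  have h1 := h.pullback k
  have hcomp : ∀ v : An.Pts X₁, An.Pts.map g₂ (An.Pts.map k v) = An.Pts.map g₁ v := fun v => by
    refine Subtype.ext ?_
    simp only [An.Pts.map_val, Category.assoc, hk]
  let e : PB k (PB.fst g₂ p) ≃ₜ PB g₁ p :=
    { toFun := fun z => ⟨(z.1.1, z.1.2.1.2), by
        have h2 : An.Pts.map k z.1.1 = z.1.2.1.1 := z.2
        rw [← hcomp, h2]
        exact z.1.2.2⟩
      invFun := fun z => ⟨(z.1.1, ⟨(An.Pts.map k z.1.1, z.1.2), by
        rw [hcomp]; exact z.2⟩), rfl⟩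
      left_inv := fun z => by
        refine Subtype.ext (Prod.ext rfl (Subtype.ext (Prod.ext ?_ rfl)))
        exact z.2
      right_inv := fun z => rfl
      continuous_toFun := by fun_prop
      continuous_invFun := by
        refine Continuous.subtype_mk (Continuous.prodMk (by fun_prop)
          (Continuous.subtype_mk (Continuous.prodMk ?_ (by fun_prop)) _)) _
        exact (An.Pts.continuous_map _).comp (by fun_prop) }
  exact h1.congr e (fun _ => rfl)

theorem isCoveringMap_fst {p : E → An.Pts X} (g : X₁ ⟶ X) [g.IsOver An.SC]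
    (hp : IsCoveringMap p) : IsCoveringMap (PB.fst g p) :=
  CovPull.isCoveringMap_pullback (An.Pts.continuous_map g) hp

theorem finite_fst {p : E → An.Pts X} (g : X₁ ⟶ X) [g.IsOver An.SC]
    (hp : ∀ x : An.Pts X, (p ⁻¹' {x}).Finite) (x : An.Pts X₁) : (PB.fst g p ⁻¹' {x}).Finite :=
  CovPull.finite_fibre_pullback (k := An.Pts.map g) hp x

/-- Invariance under isomorphism. -/
theorem isAlg_of_isIso {p : E → An.Pts X} (hp : Continuous p) (g : X₁ ⟶ X) [g.IsOver An.SC]
    [IsIso g] (h : IsAlg (PB.fst g p)) : IsAlg p := by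
  have hO : (inv g).IsOver An.SC := ⟨by rw [← comp_over g An.SC, IsIso.inv_hom_id_assoc]⟩
  have h1 : IsAlg (PB.fst (𝟙 X) p) := isAlg_comp (inv g) g (𝟙 X) (by simp) h
  let e : PB (𝟙 X) p ≃ₜ E :=
    { toFun := fun z => z.1.2
      invFun := fun z => ⟨(p z, z), An.Pts.map_id _⟩
      left_inv := fun z => by
        refine Subtype.ext (Prod.ext ?_ rfl)
        have h2 := z.2
        rw [An.Pts.map_id] at h2
        exact h2.symm
      right_inv := fun z => rfl
      continuous_toFun := by fun_prop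
      continuous_invFun := by
        exact Continuous.subtype_mk (Continuous.prodMk hp continuous_id) _ }
  exact h1.congr e (fun z => by
    have h2 := z.2
    rw [An.Pts.map_id] at h2
    exact h2.symm)

end comp

section reduction

variable {X X' : Scheme.{0}} [X.Over An.SC] [X'.Over An.SC] [LocallyOfFiniteType (X ↘ An.SC)]

/-- Existence is local on `X`. -/
theorem re_of_opens (H : ∀ x : X, ∃ V : X.Opens, x ∈ V ∧ RE V.toScheme) : RE X := by
  intro E _ p hp hf
  refine isAlg_of_cover p (fun x => ?_) hp.isLocalHomeomorph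
  obtain ⟨V, hV, hRE⟩ := H x
  exact ⟨V, hV, hRE _ _ (isCoveringMap_fst V.ι hp) (finite_fst V.ι hf)⟩

/-- Existence for an open cover by open immersions. -/
theorem re_of_openImmersions (H : ∀ x : X, ∃ (Z : Scheme.{0}) (_ : Z.Over An.SC) (j : Z ⟶ X)
    (_ : j.IsOver An.SC) (_ : IsOpenImmersion j), x ∈ Set.range j ∧ RE Z) : RE X := by
  intro E _ p hp hf
  refine isAlg_of_cover p (fun x => ?_) hp.isLocalHomeomorph
  obtain ⟨Z, _, j, _, _, hx, hRE⟩ := H x
  refine ⟨j.opensRange, hx, ?_⟩
  have h1 : IsAlg (PB.fst j p) := hRE _ _ (isCoveringMap_fst j hp) (finite_fst j hf)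
  have h2 : j.isoOpensRange.inv ≫ j = j.opensRange.ι := j.isoOpensRange_inv_comp
  have hO : (j.isoOpensRange.inv).IsOver An.SC := ⟨by
    rw [← comp_over j An.SC, ← Category.assoc, h2, comp_over]⟩
  exact isAlg_comp _ j j.opensRange.ι h2 h1

/-- Existence descends along proper surjective morphisms. -/
theorem re_of_proper [LocallyOfFiniteType (X' ↘ An.SC)] (g : X' ⟶ X) [g.IsOver An.SC]
    [IsProper g] [Surjective g] (H : RE X') : RE X := by
  intro E _ p hp hf
  exact AlgDesc2.isAlg_of_proper g hp.isLocalHomeomorph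
    (H _ _ (isCoveringMap_fst g hp) (finite_fst g hf))

/-- Existence descends along étale surjective morphisms. -/
theorem re_of_etale [LocallyOfFiniteType (X' ↘ An.SC)] (g : X' ⟶ X) [g.IsOver An.SC]
    [Etale g] [Surjective g] (H : RE X') : RE X := by
  intro E _ p hp hf
  exact AlgDesc2.isAlg_of_etale g hp.isLocalHomeomorph
    (H _ _ (isCoveringMap_fst g hp) (finite_fst g hf))

end reduction

section ring

variable (A : Type) [CommRing A]

/-- The normalization of an irreducible component. -/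
abbrev B (q : minimalPrimes A) : Type :=
  haveI := q.2.1.1
  integralClosure (A ⧸ q.1) (FractionRing (A ⧸ q.1))

theorem surjective_comap_pi :
    Function.Surjective (PrimeSpectrum.comap (algebraMap A (∀ q : minimalPrimes A, B A q))) := by
  intro x
  obtain ⟨q, hq, hqx⟩ := Ideal.exists_minimalPrimes_le (J := x.asIdeal) (I := (⊥ : Ideal A)) bot_le
  have hqp : q.IsPrime := hq.1.1
  let q' : minimalPrimes A := ⟨q, hq⟩
  let x' : Ideal (A ⧸ q) := x.asIdeal.map (Ideal.Quotient.mk q)
  have hx' : x'.IsPrime := Ideal.map_isPrime_of_surjective Ideal.Quotient.mk_surjective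
    (by rw [Ideal.mk_ker]; exact hqx)
  have hxx' : x'.comap (Ideal.Quotient.mk q) = x.asIdeal := by
    rw [Ideal.comap_map_of_surjective _ Ideal.Quotient.mk_surjective, ← RingHom.ker_eq_comap_bot,
      Ideal.mk_ker, sup_eq_left.2 hqx]
  obtain ⟨Q, -, hQp, hQ⟩ := Ideal.exists_ideal_over_prime_of_isIntegral (S := B A q') x' ⊥ (by
    intro a ha
    have h1 : algebraMap (A ⧸ q) (B A q') a = 0 := ha
    have h2 : Function.Injective (algebraMap (A ⧸ q) (B A q')) :=
      FaithfulSMul.algebraMap_injective _ _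
    rw [(injective_iff_map_eq_zero _).1 h2 a h1]
    exact Ideal.zero_mem _)
  refine ⟨PrimeSpectrum.comap (Pi.evalRingHom _ q') ⟨Q, hQp⟩, ?_⟩
  ext a
  change a ∈ Ideal.comap _ (Ideal.comap _ Q) ↔ _
  rw [← hxx', ← hQ]
  rfl

theorem finite_B [Algebra ℂ A] [Algebra.FiniteType ℂ A] (q : minimalPrimes A) :
    Module.Finite A (B A q) := by
  have hqp : q.1.IsPrime := q.2.1.1
  have h1 : Module.Finite (A ⧸ q.1) (B A q) := NormRing.finite_integralClosure (A ⧸ q.1)
  exact Module.Finite.trans (A ⧸ q.1) (B A q)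

theorem isDomain_B (q : minimalPrimes A) : IsDomain (B A q) := by
  have hqp : q.1.IsPrime := q.2.1.1
  infer_instance

theorem isIntegrallyClosed_B (q : minimalPrimes A) : IsIntegrallyClosed (B A q) := by
  have hqp : q.1.IsPrime := q.2.1.1
  exact integralClosure.isIntegrallyClosedOfFiniteExtension (FractionRing (A ⧸ q.1))

end ring

/-- Existence for affine schemes, from the normal integral affine case. -/
theorem re_affine (H : ∀ (Z : Scheme.{0}) [Z.Over An.SC] [LocallyOfFiniteType (Z ↘ An.SC)]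
    [IsAffine Z] [IsIntegral Z], IsIntegrallyClosed Γ(Z, ⊤) → RE Z)
    (X : Scheme.{0}) [X.Over An.SC] [LocallyOfFiniteType (X ↘ An.SC)] [IsAffine X] : RE X := by
  let A : Type := Γ(X, ⊤)
  let _ : Algebra ℂ A := Groth.Agent.An.H868.Chart.algU (X := X) ⊤
  have hft : Algebra.FiniteType ℂ A :=
    Groth.Agent.An.H868.Chart.finiteType_algU (X := X) (isAffineOpen_top X)
  have hN : IsNoetherianRing A := Algebra.FiniteType.isNoetherianRing ℂ A
  have hfin : Finite (minimalPrimes A) := (minimalPrimes.finite_of_isNoetherianRing A).to_subtype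
  have hB : ∀ q : minimalPrimes A, Module.Finite A (B A q) := finite_B A
  let P : Type := ∀ q : minimalPrimes A, B A q
  have hP : Module.Finite A P := Module.Finite.pi
  let g₀ : Spec (CommRingCat.of P) ⟶ Spec (CommRingCat.of A) :=
    Spec.map (CommRingCat.ofHom (algebraMap A P))
  have hg₀ : IsFinite g₀ := by
    refine (IsFinite.SpecMap_iff _).2 ?_
    exact (RingHom.finite_algebraMap.2 hP)
  have hg₀' : Surjective g₀ := ⟨surjective_comap_pi A⟩
  let g : Spec (CommRingCat.of P) ⟶ X := g₀ ≫ X.isoSpec.inv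
  have hg : IsFinite g := inferInstanceAs (IsFinite (g₀ ≫ X.isoSpec.inv))
  have hg' : Surjective g := inferInstanceAs (Surjective (g₀ ≫ X.isoSpec.inv))
  let _ : (Spec (CommRingCat.of P)).Over An.SC := ⟨g ≫ X ↘ An.SC⟩
  have hgO : g.IsOver An.SC := ⟨rfl⟩
  have hftP : LocallyOfFiniteType (Spec (CommRingCat.of P) ↘ An.SC) :=
    inferInstanceAs (LocallyOfFiniteType (g ≫ X ↘ An.SC))
  refine re_of_proper g (re_of_openImmersions fun x => ?_)
  obtain ⟨q, y, hy⟩ := PrimeSpectrum.exists_comap_evalRingHom_eq x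
  let j : Spec (CommRingCat.of (B A q)) ⟶ Spec (CommRingCat.of P) :=
    Spec.map (CommRingCat.ofHom (Pi.evalRingHom _ q))
  have hj : IsOpenImmersion j := inferInstance
  let _ : (Spec (CommRingCat.of (B A q))).Over An.SC := ⟨j ≫ Spec (CommRingCat.of P) ↘ An.SC⟩
  have hjO : j.IsOver An.SC := ⟨rfl⟩
  have hftB : LocallyOfFiniteType (Spec (CommRingCat.of (B A q)) ↘ An.SC) :=
    inferInstanceAs (LocallyOfFiniteType (j ≫ Spec (CommRingCat.of P) ↘ An.SC))
  have hD : IsDomain (B A q) := isDomain_B A q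
  have hIC : IsIntegrallyClosed (B A q) := isIntegrallyClosed_B A q
  refine ⟨Spec (CommRingCat.of (B A q)), inferInstance, j, hjO, hj, ⟨y, hy⟩, ?_⟩
  refine H (Spec (CommRingCat.of (B A q))) ?_
  exact IsIntegrallyClosed.of_equiv
    (Scheme.ΓSpecIso (CommRingCat.of (B A q))).symm.commRingCatIsoToRingEquiv

/-- **Reduction of Riemann's existence theorem to normal affine varieties.** -/
theorem re_of_normal (H : ∀ (Z : Scheme.{0}) [Z.Over An.SC] [LocallyOfFiniteType (Z ↘ An.SC)]
    [IsAffine Z] [IsIntegral Z], IsIntegrallyClosed Γ(Z, ⊤) → RE Z)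
    (X : Scheme.{0}) [X.Over An.SC] [LocallyOfFiniteType (X ↘ An.SC)] : RE X := by
  refine re_of_opens fun x => ?_
  obtain ⟨V, hV, hxV, -⟩ := exists_isAffineOpen_mem_and_subset (x := x) (U := ⊤) trivial
  have : IsAffine V.toScheme := hV
  exact ⟨V, hxV, re_affine H V.toScheme⟩

/-- The statement of the milestone S4207, from the normal affine case. -/
theorem milestone_of_normal
    (H : ∀ (Z : Scheme.{0}) [Z.Over An.SC] [LocallyOfFiniteType (Z ↘ An.SC)]
      [IsAffine Z] [IsIntegral Z], IsIntegrallyClosed Γ(Z, ⊤) → RE Z)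
    (X : Scheme.{0}) [X.Over An.SC] [LocallyOfFiniteType (X ↘ An.SC)]
    (E : Type) [TopologicalSpace E] (p : E → An.Pts X) (hp : IsCoveringMap p)
    (hfin : ∀ x : An.Pts X, (p ⁻¹' {x}).Finite) :
    ∃ (Y : FEt.Cat X) (e : An.Pts Y.left ≃ₜ E),
      ∀ a : An.Pts Y.left, p (e a) = An.Pts.map (Y.left ↘ X) a :=
  (re_of_normal H X E p hp hfin).exists_fet

end Groth.Agent.An.H866.AlgNormal
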