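import Groth.Agent.An.H866.AlgDesc

/-!
# Transition morphisms between algebraic models

Let `p : E → X(ℂ)`, `h : X₁ → X₂` a morphism over `X`, and `A₁`, `A₂` algebraic models of the
pullbacks of `p` to `X₁`, `X₂`.  There is a unique morphism `A₁.Y → A₂.Y` over `h` compatible with
the projections to `E`, and the resulting square is cartesian.
-/

set_option autoImplicit false
open CategoryTheory AlgebraicGeometry Topology TopologicalSpace Opposite

noncomputable section

namespace Groth.Agent.An.H866.AlgTr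

open AlgCov AlgDesc

variable {X X₁ X₂ X₃ : Scheme.{0}} [X.Over An.SC] [X₁.Over An.SC] [X₂.Over An.SC] [X₃.Over An.SC]
  {E : Type} [TopologicalSpace E]
  {g₁ : X₁ ⟶ X} {g₂ : X₂ ⟶ X} {g₃ : X₃ ⟶ X} [g₁.IsOver An.SC] [g₂.IsOver An.SC] [g₃.IsOver An.SC]
  {p : E → An.Pts X} (A₁ : AlgData (PB.fst g₁ p)) (A₂ : AlgData (PB.fst g₂ p))
  (A₃ : AlgData (PB.fst g₃ p))
  (h : X₁ ⟶ X₂) [h.IsOver An.SC]

/-- The condition characterising the transition morphism. -/
structure IsTr (m : A₁.Y ⟶ A₂.Y) : Prop where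
  isOver : m.IsOver An.SC
  w : m ≫ A₂.π = A₁.π ≫ h
  eps_map : ∀ y : An.Pts A₁.Y, eps g₂ A₂ (An.Pts.map m y) = eps g₁ A₁ y

theorem exists_tr [LocallyOfFiniteType (X₁ ↘ An.SC)] (hg : h ≫ g₂ = g₁) :
    ∃ m : A₁.Y ⟶ A₂.Y, IsTr A₁ A₂ h m := by
  have hft : LocallyOfFiniteType (A₁.Y ↘ An.SC) := by
    rw [← comp_over A₁.π An.SC]
    infer_instance
  have key : ∀ y : An.Pts A₁.Y, An.Pts.map g₂ (An.Pts.map (A₁.π ≫ h) y) = p (eps g₁ A₁ y) := by
    intro y
    refine Eq.trans ?_ (eps_spec g₁ A₁ y).symm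
    refine Subtype.ext ?_
    simp only [An.Pts.map_val, Category.assoc, hg]
  let φ : An.Pts A₁.Y → An.Pts A₂.Y := fun y =>
    mkPt g₂ A₂ (An.Pts.map (A₁.π ≫ h) y) (eps g₁ A₁ y) (key y)
  have hφ : Continuous φ := by
    refine A₂.e.symm.continuous.comp (Continuous.subtype_mk ?_ _)
    exact (An.Pts.continuous_map _).prodMk (continuous_eps g₁ A₁)
  obtain ⟨m, hm, hm'⟩ := exists_hom (A₁.π ≫ h) A₂.π φ hφ (fun y => map_mkPt g₂ A₂ _ _ _)
  have hmO : m.IsOver An.SC := ⟨by
    rw [← comp_over A₂.π An.SC, ← Category.assoc, hm, comp_over]⟩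
  refine ⟨m, hmO, hm, fun y => ?_⟩
  have h1 : An.Pts.map m y = φ y := Subtype.ext (hm' y)
  rw [h1]
  exact eps_mkPt g₂ A₂ _ _ _

variable {A₁ A₂ A₃ h}

theorem IsTr.unique [LocallyOfFiniteType (X₁ ↘ An.SC)] {m m' : A₁.Y ⟶ A₂.Y}
    (hm : IsTr A₁ A₂ h m) (hm' : IsTr A₁ A₂ h m') : m = m' := by
  have hft : LocallyOfFiniteType (A₁.Y ↘ An.SC) := by
    rw [← comp_over A₁.π An.SC]
    infer_instance
  have i1 := hm.isOver
  have i2 := hm'.isOver
  refine hom_ext A₂.π m m' (hm.w.trans hm'.w.symm) fun a => ?_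
  have h1 : An.Pts.map m a = An.Pts.map m' a := by
    refine ext_eps g₂ A₂ ?_ ?_
    · refine Subtype.ext ?_
      simp only [An.Pts.map_val, Category.assoc, hm.w, hm'.w]
    · rw [hm.eps_map, hm'.eps_map]
  exact congrArg Subtype.val h1

theorem IsTr.id : IsTr A₁ A₁ (𝟙 X₁) (𝟙 A₁.Y) where
  isOver := inferInstance
  w := by rw [Category.id_comp, Category.comp_id]
  eps_map y := by rw [An.Pts.map_id]

theorem IsTr.comp {k : X₂ ⟶ X₃} [k.IsOver An.SC] {m : A₁.Y ⟶ A₂.Y} {n : A₂.Y ⟶ A₃.Y}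
    (hm : IsTr A₁ A₂ h m) (hn : IsTr A₂ A₃ k n) : IsTr A₁ A₃ (h ≫ k) (m ≫ n) := by
  have i1 := hm.isOver
  have i2 := hn.isOver
  refine ⟨inferInstance, ?_, fun y => ?_⟩
  · rw [Category.assoc, hn.w, ← Category.assoc, hm.w, Category.assoc]
  · rw [An.Pts.map_comp, hn.eps_map, hm.eps_map]

theorem IsTr.isPullback [LocallyOfFiniteType (X₁ ↘ An.SC)] [LocallyOfFiniteType (X₂ ↘ An.SC)]
    (hg : h ≫ g₂ = g₁) {m : A₁.Y ⟶ A₂.Y}
    (hm : IsTr A₁ A₂ h m) : IsPullback m A₁.π A₂.π h := by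
  have i1 := hm.isOver
  have hft : LocallyOfFiniteType (A₁.Y ↘ An.SC) := by
    rw [← comp_over A₁.π An.SC]
    infer_instance
  have hft2 : LocallyOfFiniteType (A₂.Y ↘ An.SC) := by
    rw [← comp_over A₂.π An.SC]
    infer_instance
  have hh : LocallyOfFiniteType h := by
    have : LocallyOfFiniteType (h ≫ (X₂ ↘ An.SC)) := by rw [comp_over]; infer_instance
    exact locallyOfFiniteType_of_comp h (X₂ ↘ An.SC)
  have hftP : LocallyOfFiniteType (Limits.pullback A₂.π h ↘ An.SC) := by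
    change LocallyOfFiniteType (Limits.pullback.fst A₂.π h ≫ A₂.Y ↘ An.SC)
    infer_instance
  let k : A₁.Y ⟶ Limits.pullback A₂.π h := Limits.pullback.lift m A₁.π hm.w
  have hk1 : k ≫ Limits.pullback.fst A₂.π h = m := Limits.pullback.lift_fst _ _ _
  have hk2 : k ≫ Limits.pullback.snd A₂.π h = A₁.π := Limits.pullback.lift_snd _ _ _
  have hkO : k.IsOver An.SC := ⟨by
    change k ≫ Limits.pullback.fst A₂.π h ≫ A₂.Y ↘ An.SC = _
    rw [← Category.assoc, hk1, comp_over]⟩
  have hkE : Etale k := by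
    have : Etale (k ≫ Limits.pullback.snd A₂.π h) := by rw [hk2]; infer_instance
    exact Etale.of_comp k (Limits.pullback.snd A₂.π h)
  have hiso : IsIso k := by
    refine Groth.Agent.An.H863.FF.isIso_of_etale_of_bijective k ?_ ?_
    · intro y y' hyy'
      have e1 : An.Pts.map m y = An.Pts.map m y' := by
        refine Subtype.ext ?_
        have := congrArg (fun z => z.1 ≫ Limits.pullback.fst A₂.π h) hyy'
        simpa only [An.Pts.map_val, Category.assoc, hk1] using this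
      have e2 : An.Pts.map A₁.π y = An.Pts.map A₁.π y' := by
        refine Subtype.ext ?_
        have := congrArg (fun z => z.1 ≫ Limits.pullback.snd A₂.π h) hyy'
        simpa only [An.Pts.map_val, Category.assoc, hk2] using this
      refine ext_eps g₁ A₁ e2 ?_
      rw [← hm.eps_map, ← hm.eps_map, e1]
    · intro z
      let v : An.Pts X₁ := An.Pts.map (Limits.pullback.snd A₂.π h) z
      let w : An.Pts A₂.Y := An.Pts.map (Limits.pullback.fst A₂.π h) z
      have hvw : An.Pts.map A₂.π w = An.Pts.map h v := An.Pts.map_pullback_condition A₂.π h z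
      have key : An.Pts.map g₁ v = p (eps g₂ A₂ w) := by
        refine Eq.trans ?_ (eps_spec g₂ A₂ w).symm
        rw [hvw]
        refine Subtype.ext ?_
        simp only [An.Pts.map_val, Category.assoc, hg]
      let y := mkPt g₁ A₁ v (eps g₂ A₂ w) key
      have hy1 : An.Pts.map A₁.π y = v := map_mkPt g₁ A₁ _ _ _
      have hy2 : eps g₁ A₁ y = eps g₂ A₂ w := eps_mkPt g₁ A₁ _ _ _
      have hy3 : An.Pts.map m y = w := by
        refine ext_eps g₂ A₂ ?_ ?_
        · rw [hvw, ← hy1]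
          refine Subtype.ext ?_
          simp only [An.Pts.map_val, Category.assoc, hm.w]
        · rw [hm.eps_map, hy2]
      refine ⟨y, Subtype.ext ?_⟩
      apply Limits.pullback.hom_ext
      · have h3 : y.1 ≫ m = z.1 ≫ Limits.pullback.fst A₂.π h := congrArg Subtype.val hy3
        simpa only [An.Pts.map_val, Category.assoc, hk1] using h3
      · have h3 : y.1 ≫ A₁.π = z.1 ≫ Limits.pullback.snd A₂.π h := congrArg Subtype.val hy1
        simpa only [An.Pts.map_val, Category.assoc, hk2] using h3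
  exact IsPullback.of_iso_pullback ⟨hm.w⟩ (asIso k) hk1 hk2

end Groth.Agent.An.H866.AlgTr
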