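import Groth.Agent.An.H889.TDefs
import Groth.Agent.An.H888.Dies
import Groth.Agent.An.H885.ClPoint
import Groth.Agent.An.H871.Imm
import Groth.Agent.Desc.LQF
import Mathlib.AlgebraicGeometry.Artinian
import Mathlib.AlgebraicGeometry.Morphisms.QuasiFinite

/-!
# `T(0)`

Schemes of dimension `≤ 0` locally of finite type over `ℂ` are discrete, so classes of positive
degree die on the open points.
-/

set_option autoImplicit false
open CategoryTheory CategoryTheory.Limits AlgebraicGeometry Opposite TopologicalSpace Topology

noncomputable section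

namespace Groth.Agent.An.H866.Asm0

open Groth.Agent.An.H888.ClsH Groth.Agent.An.H888.Dies Groth.Agent.An.H889.TDefs
open Groth.Agent.An.H885 (ClPoint.mem_topology_iff)

/-- Étale schemes over a zero-dimensional scheme are discrete. -/
theorem discrete_of_dim {Y : Scheme.{0}} [Y.Over An.SC] [LocallyOfFiniteType (Y ↘ An.SC)]
    (h : topologicalKrullDim Y ≤ 0) {U : Scheme.{0}} (f : U ⟶ Y) [LocallyQuasiFinite f] :
    DiscreteTopology U := by
  have : IsLocallyNoetherian An.SC := inferInstance
  have : IsLocallyNoetherian Y := LocallyOfFiniteType.isLocallyNoetherian (Y ↘ An.SC)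
  have : IsLocallyArtinian Y := IsLocallyArtinian.of_topologicalKrullDim_le_zero h
  have h1 : DiscreteTopology Y := inferInstance
  have h3 := f.isDiscrete_preimage (s := Set.univ) (isDiscrete_univ_iff.2 h1)
  rw [Set.preimage_univ] at h3
  exact isDiscrete_univ_iff.1 h3

set_option backward.isDefEq.respectTransparency.types false in
theorem tprop_zero : TProp 0 := by
  intro Y _ _ _ _ hdim M _ _ q hq
  refine isZero_epsRpush Y _ (fun U q x a => ?_) q hq
  have hU : Etale U.hom := U.prop
  have hlqf : LocallyQuasiFinite U.hom := Groth.Agent.Desc.LQF.of_etale U.hom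
  have : DiscreteTopology U.left := discrete_of_dim (Y := Y) (by simpa using hdim) U.hom
  have hft : LocallyOfFiniteType (U.left ↘ An.SC) := by
    change LocallyOfFiniteType ((U.left ↘ Y) ≫ (Y ↘ An.SC))
    infer_instance
  let W : U.left.Opens := ⟨{a.pt}, isOpen_discrete _⟩
  let V : Y.Etale := Scheme.Etale.mk (W.ι ≫ U.hom)
  let k : V ⟶ U := MorphismProperty.Over.homMk W.ι rfl trivial
  have hk : IsOpenImmersion k.left := inferInstanceAs (IsOpenImmersion W.ι)
  have hr : Set.range k.left = (W : Set U.left) := by
    change Set.range W.ι = _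
    exact Scheme.Opens.range_ι W
  have ha : a ∈ Set.range (An.Pts.map (X := V.left) (Y := U.left) k.left) := by
    rw [H871.Imm.range_map_of_isOpenImmersion, Set.mem_preimage, hr]
    exact rfl
  obtain ⟨b, hb⟩ := ha
  have hall : ∀ v : An.Pts V.left, An.Pts.map (X := V.left) (Y := U.left) k.left v = a := by
    intro v
    apply H871.Basic.pt_injective
    have h1 : (An.Pts.map (X := V.left) (Y := U.left) k.left v).pt ∈ Set.range k.left := by
      rw [An.Pts.pt_map]
      exact ⟨_, rfl⟩
    rw [hr] at h1
    exact h1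
  obtain ⟨S, hS, hx⟩ := exists_cover_res_eq_zero ((An.eps Y).obj U) q
    (An.Cl.const (An.Pts Y) M) x
  obtain ⟨B, g, c, hg, hc⟩ := (ClPoint.mem_topology_iff S).1 hS a
  let c' : (An.eps Y).obj V ⟶ B := ⟨fun _ => c, continuous_const, fun v => by
    rw [← g.over, hc, ← hall v]
    exact ((An.eps Y).map k).over v⟩
  refine ⟨V, k, b, hb, ?_⟩
  have hh : (An.eps Y).map k = c' ≫ g := by
    apply An.Cl.hom_ext
    funext v
    exact (hall v).trans hc.symm
  rw [hh, ← res_res, hx g hg, res_zero]

end Groth.Agent.An.H866.Asm0
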