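import Groth.Agent.Cohder.RDLES

/-!
# Acyclicity by dimension shifting
-/

set_option autoImplicit false
open CategoryTheory CategoryTheory.Limits

universe v u v' u'

namespace Groth.Agent.An.H866.DimShift

variable {C : Type u} [Category.{v} C] [Abelian C] [HasInjectiveResolutions C]
  {D : Type u'} [Category.{v'} D] [Abelian D] (F : C ⥤ D) [F.Additive] [PreservesFiniteLimits F]

/-- If every object of the class `P` embeds in an acyclic object, with cokernel `Q` in the class and
such that `F A ⟶ F Q` is an epimorphism, then the objects of `P` are acyclic. -/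
theorem isZero_rightDerived_of_class (P : C → Prop)
    (h : ∀ G, P G → ∃ (A Q : C) (i : G ⟶ A) (p : A ⟶ Q) (w : i ≫ p = 0),
      (ShortComplex.mk i p w).ShortExact ∧ P Q ∧
      (∀ q, 0 < q → IsZero ((F.rightDerived q).obj A)) ∧ Epi (F.map p)) (q : ℕ) :
    ∀ G, P G → IsZero ((F.rightDerived (q + 1)).obj G) := by
  induction q with
  | zero =>
    intro G hG
    obtain ⟨A, Q, i, p, w, hS, hQ, hA, hp⟩ := h G hG
    obtain ⟨-, -, δ, hδ⟩ := Groth.Agent.Cohder.RDLES.exists_les F hS
    obtain ⟨w₁, w₂, h₁, h₂⟩ := hδ 0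
    have e1 : Epi ((F.rightDerived 0).map p) := by
      have e2 : (F.rightDerived 0).map p = (F.rightDerivedZeroIsoSelf.app A).hom ≫ F.map p ≫
          (F.rightDerivedZeroIsoSelf.app Q).inv := by
        rw [← Category.assoc, Iso.eq_comp_inv]
        exact F.rightDerivedZeroIsoSelf.hom.naturality p
      rw [e2]
      infer_instance
    have e3 : δ 0 = 0 := (cancel_epi ((F.rightDerived 0).map p)).1 (w₁.trans comp_zero.symm)
    have e4 : Epi (δ 0) := h₂.epi_f ((hA 1 Nat.one_pos).eq_of_tgt _ _)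
    rw [e3] at e4
    exact IsZero.of_epi_eq_zero (0 : (F.rightDerived 0).obj Q ⟶ _) rfl
  | succ q ih =>
    intro G hG
    obtain ⟨A, Q, i, p, w, hS, hQ, hA, hp⟩ := h G hG
    obtain ⟨-, -, δ, hδ⟩ := Groth.Agent.Cohder.RDLES.exists_les F hS
    obtain ⟨w₁, w₂, h₁, h₂⟩ := hδ (q + 1)
    have e4 : Epi (δ (q + 1)) := h₂.epi_f ((hA (q + 1 + 1) (Nat.succ_pos _)).eq_of_tgt _ _)
    exact IsZero.of_epi (δ (q + 1)) (ih Q hQ)

end Groth.Agent.An.H866.DimShift
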