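import Groth.Agent.An.H894.FormalEnd
import Groth.Agent.An.H4.ColimT2Cl
import Groth.Agent.An.H885.EpsGerm
import Groth.Agent.S4205

/-!
# Proper schemes: from constructible to torsion sheaves

`X` proper over `ℂ`, and `Hcmp X F q` bijective for all constructible torsion sheaves `F`:
* `hcmp_bijective`: `Hcmp X F q` is bijective for all torsion sheaves;
* `eta_bijective`: `F(X) → (ε^* F)(X(ℂ))` is bijective for all torsion sheaves;
* `subsingleton_H_tor`: `H^q(X(ℂ), ε^* J[l]) = 0` for `J` injective, `l ≠ 0`, `q > 0`.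
-/

set_option autoImplicit false

open CategoryTheory CategoryTheory.Limits AlgebraicGeometry Opposite CategoryTheory.Abelian

noncomputable section

namespace Groth.Agent.An.H866.ProperT

open Groth.Agent.Sga4B Groth.Agent.An.H894.FormalEnd

attribute [local instance 3000] hasSheafify hasExt hasSheafifyCl hasExtCl
attribute [local instance 5000] additive_epsPull

/-- A homomorphism bijective on `Hom(ℤ, -)` is bijective. -/
theorem bijective_of_comp {A B : AddCommGrpCat.{1}} (v : A ⟶ B)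
    (h : Function.Bijective (fun g : AddCommGrpCat.of (ULift.{1} ℤ) ⟶ A => g ≫ v)) :
    Function.Bijective v := by
  let z (A : AddCommGrpCat.{1}) (a : A) : AddCommGrpCat.of (ULift.{1} ℤ) ⟶ A :=
    AddCommGrpCat.ofHom ((zmultiplesHom A a).comp (AddEquiv.ulift (α := ℤ)).toAddMonoidHom)
  have hz1 : ∀ (A : AddCommGrpCat.{1}) (a : A), (z A a) (⟨1⟩ : ULift.{1} ℤ) = a := fun A a => by
    change (1 : ℤ) • a = a
    exact one_zsmul a
  have hzc : ∀ (a : A), z A a ≫ v = z B (v a) := fun a => by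
    ext n
    change v ((n.down : ℤ) • a) = (n.down : ℤ) • v a
    exact map_zsmul v.hom _ _
  constructor
  · intro a b hab
    have h1 := h.1 (a₁ := z A a) (a₂ := z A b) (by
      change z A a ≫ v = z A b ≫ v
      rw [hzc, hzc, hab])
    rw [← hz1 A a, h1, hz1]
  · intro b
    obtain ⟨g, hg⟩ := h.2 (z B b)
    refine ⟨g (⟨1⟩ : ULift.{1} ℤ), ?_⟩
    have h2 := congrArg (fun k : AddCommGrpCat.of (ULift.{1} ℤ) ⟶ B => k (⟨1⟩ : ULift.{1} ℤ)) hg
    exact h2.trans (hz1 B b)

/-- `Ext^q(ℤ, J[m]) = 0` for `J` injective, `q > 0`. -/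
theorem subsingleton_ext_tor (X : Scheme.{0}) (J : EtCoh.Ab X) [Injective J] (m : ℕ) (hm : m ≠ 0)
    (q : ℕ) : Subsingleton (Ext.{1} (EtCoh.const X ℤ) (kernel (m • 𝟙 J)) (q + 1)) := by
  have hmono := TorsionFree.mono_nsmul_const X m hm
  have hepi : Epi (m • 𝟙 J) := by
    obtain ⟨P, π, hπ, hP⟩ := TorsionFree.exists_torsionFree_cover X.smallEtaleTopology m hm J
    exact ExtCmp.epi_nsmul_of_injective m π
  let S' : ShortComplex (EtCoh.Ab X) :=
    ShortComplex.mk (kernel.ι (m • 𝟙 J)) (m • 𝟙 J) (kernel.condition _)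
  have hS' : S'.ShortExact :=
    { exact := ShortComplex.exact_kernel (m • 𝟙 J)
      mono_f := inferInstanceAs (Mono (kernel.ι _))
      epi_g := hepi }
  refine subsingleton_of_forall_eq 0 fun x => ?_
  have hx : x.comp (Ext.mk₀ S'.f) (add_zero (q + 1)) = 0 :=
    Ext.eq_zero_of_injective (I := J) _
  obtain ⟨y, rfl⟩ := Ext.covariant_sequence_exact₁ (EtCoh.const X ℤ) hS' x hx (n₀ := q) rfl
  obtain ⟨z, hz⟩ : ∃ z : Ext.{1} (EtCoh.const X ℤ) J q, z.comp (Ext.mk₀ S'.g) (add_zero q) = y := by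
    cases q with
    | zero =>
      obtain ⟨f, rfl⟩ := (Ext.mk₀_bijective (EtCoh.const X ℤ) J).2 y
      obtain ⟨g, hg⟩ := ExtCmp.exists_nsmul_eq m f
      refine ⟨Ext.mk₀ g, ?_⟩
      rw [Ext.mk₀_comp_mk₀]
      have h1 : g ≫ (m • 𝟙 J) = f := by
        rw [Preadditive.comp_nsmul, Category.comp_id, hg]
      exact congrArg Ext.mk₀ h1
    | succ q =>
      refine ⟨0, ?_⟩
      rw [Ext.zero_comp]
      exact (Ext.eq_zero_of_injective (I := J) _).symm
  rw [← hz, Ext.comp_assoc_of_second_deg_zero, ShortComplex.ShortExact.comp_extClass,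
    Ext.comp_zero]

variable (X : Scheme.{0}) [X.Over An.SC] [LocallyOfFiniteType (X ↘ An.SC)]
    [Fact An.EtaleLH] [An.EpsCont X] [PreservesFiniteLimits (An.epsPull X)]

/-- Constructible sheaves suffice, for `X(ℂ)` compact. -/
theorem hc_bijective [CompactSpace X] [QuasiSeparatedSpace X] (q : ℕ)
    (hT : ColimRep (An.Pts X) q)
    (H : ∀ F : EtCoh.Ab X, EtCoh.IsTorsion F → EtPBC.IsConstructible F →
      Function.Bijective (hc X F q))
    (F : EtCoh.Ab X) (hF : EtCoh.IsTorsion F) : Function.Bijective (hc X F q) := by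
  obtain ⟨J, _, _, D, c, hcol, hD, ⟨e⟩⟩ := EtpbcA.TorsionColim.exists_filtered_consM
    EtpbcA.TorsionColim.dir_pos F (by
      intro U s x
      obtain ⟨V, g, ⟨v, hv⟩, h⟩ := hF U s x
      obtain ⟨n, hn, h0⟩ := isOfFinAddOrder_iff_nsmul_eq_zero.1 h
      exact ⟨V, g, v, hv, n, hn, h0⟩)
  have hb : ∀ j, Function.Bijective (hc X (D.obj j) q) := by
    intro j
    obtain ⟨h1, m, hm, hk⟩ := hD j
    have hm' : m ≠ 0 := (show 0 < m from hm).ne'
    have hk' := (TorsionFree.killedBy_iff m _).1 hk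
    exact H _ (isTorsion_of_killed X m hm' hk') h1
  exact ⟨ExtCmp.injective_of_iso (An.epsPull X) _ e q (injective_colim hcol q hT fun j => (hb j).1),
    ExtCmp.surjective_of_iso (An.epsPull X) _ e q (surjective_colim hcol q hT fun j => (hb j).2)⟩

omit [An.EpsCont X] [PreservesFiniteLimits (An.epsPull X)] in
theorem colimRep [IsProper (X ↘ An.SC)] (q : ℕ) : ColimRep (An.Pts X) q := by
  obtain ⟨hc, ht⟩ := (Groth.Agent.S4205.result X).1 inferInstance
  exact ColimRep.of_preserves (An.Pts X) q fun J _ _ =>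
    H4.ColimT2Cl.preservesColimitsOfShape_HF (An.Pts X) J q

variable (H : ∀ (F : EtCoh.Ab X), EtCoh.IsTorsion F → EtPBC.IsConstructible F → ∀ q : ℕ,
  Function.Bijective (An.Hcmp X F q))

include H

/-- **Torsion sheaves from constructible ones**, `X` proper. -/
theorem hcmp_bijective [IsProper (X ↘ An.SC)] (F : EtCoh.Ab X) (hF : EtCoh.IsTorsion F) (q : ℕ) :
    Function.Bijective (An.Hcmp X F q) := by
  have hqc : CompactSpace X := QuasiCompact.compactSpace_of_compactSpace (X ↘ An.SC)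
  have hqs : QuasiSeparatedSpace X :=
    quasiSeparatedSpace_of_quasiSeparated (X ↘ An.SC)
  rw [Hcmp_eq_hc]
  exact hc_bijective X q (colimRep X q) (fun F hF hc => by
    rw [← Hcmp_eq_hc]
    exact H F hF hc q) F hF

omit H in
/-- Global sections from degree `0`. -/
theorem bijective_of_hc_zero (F : EtCoh.Ab X) (h : Function.Bijective (hc X F 0)) :
    Function.Bijective (((An.epsAdj X).unit.app F).hom.app (op (EtCoh.top X))) := by
  let u := (An.epsAdj X).unit.app F
  let e := (EtCore.constAdj X).homEquiv (AddCommGrpCat.of (ULift.{1} ℤ))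
  -- `Hom(ℤ, F) → Hom(ℤ, ε_* ε^* F)`
  have h4 : (hc X F 0) ∘ (Ext.mk₀ : (EtCoh.const X ℤ ⟶ F) → _) =
      (Ext.mk₀ : _ → Ext.{1} (An.Cl.const (An.Pts X) ℤ) ((An.epsPull X).obj F) 0) ∘
      (fun f : EtCoh.const X ℤ ⟶ F =>
        (An.epsPullConst X ℤ).inv ≫ (An.epsPull X).map f) := by
    funext f
    change (Ext.mk₀ (An.epsPullConst X ℤ).inv).comp ((Ext.mk₀ f).mapExactFunctor (An.epsPull X))
      (zero_add 0) = Ext.mk₀ _
    rw [Ext.mapExactFunctor_mk₀, Ext.mk₀_comp_mk₀]
  have h3 : (fun f : EtCoh.const X ℤ ⟶ F =>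
      (An.epsPullConst X ℤ).inv ≫ (An.epsPull X).map f) =
      (fun g => (An.epsPullConst X ℤ).inv ≫ g) ∘
        ((An.epsAdj X).homEquiv _ _).symm ∘ (fun f => f ≫ u) := by
    funext f
    change _ ≫ (An.epsPull X).map f = _ ≫ ((An.epsAdj X).homEquiv _ _).symm
      (f ≫ (An.epsAdj X).unit.app F)
    congr 1
    rw [Equiv.eq_symm_apply, Adjunction.homEquiv_unit]
    exact ((An.epsAdj X).unit.naturality f).symm
  have h1 : (fun f : EtCoh.const X ℤ ⟶ F => f ≫ u) =
      (e _).symm ∘ (fun g => g ≫ (EtCore.gsec X).map u) ∘ e F := by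
    funext f
    change f ≫ u = (e _).symm (e F f ≫ (EtCore.gsec X).map u)
    rw [Equiv.eq_symm_apply]
    exact Adjunction.homEquiv_naturality_right _ _ _
  have b1 : Function.Bijective ((hc X F 0) ∘ (Ext.mk₀ : (EtCoh.const X ℤ ⟶ F) → _)) :=
    h.comp (Ext.mk₀_bijective _ _)
  rw [h4, h3] at b1
  have b2 := (Function.Bijective.of_comp_iff' (Ext.mk₀_bijective _ _) _).1 b1
  have b3 : Function.Bijective (fun g : (An.epsPull X).obj (EtCoh.const X ℤ) ⟶
      (An.epsPull X).obj F => (An.epsPullConst X ℤ).inv ≫ g) :=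
    ⟨fun a b hab => (cancel_epi _).1 hab, fun g => ⟨(An.epsPullConst X ℤ).hom ≫ g, by simp⟩⟩
  have b4 := (Function.Bijective.of_comp_iff' b3 _).1 b2
  have b5 := (Function.Bijective.of_comp_iff' (((An.epsAdj X).homEquiv _ _).symm.bijective) _).1 b4
  have b5' : Function.Bijective ((e _).symm ∘ (fun g => g ≫ (EtCore.gsec X).map u) ∘ e F) :=
    h1 ▸ b5
  have b6 := (Function.Bijective.of_comp_iff' ((e _).symm.bijective) _).1 b5'
  have b7 := (Function.Bijective.of_comp_iff _ (e F).bijective).1 b6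
  exact bijective_of_comp _ b7

/-- `F(X) → (ε^* F)(X(ℂ))` is bijective, `X` proper. -/
theorem eta_bijective [IsProper (X ↘ An.SC)] (F : EtCoh.Ab X) (hF : EtCoh.IsTorsion F) :
    Function.Bijective (Groth.Agent.An.H885.EpsGerm.eta X F (EtCoh.top X)) :=
  bijective_of_hc_zero X F (by
    rw [← Hcmp_eq_hc]
    exact hcmp_bijective X H F hF 0)

/-- `H^q(X(ℂ), ε^* J[m]) = 0` for `J` injective, `q > 0`, `X` proper. -/
theorem subsingleton_H_tor [IsProper (X ↘ An.SC)] (J : EtCoh.Ab X) (hJ : Injective J) (m : ℕ)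
    (hm : m ≠ 0) (q : ℕ) (hq : 0 < q) :
    Subsingleton (An.Cl.H ((An.epsPull X).obj (kernel (m • 𝟙 J))) q) := by
  obtain ⟨q, rfl⟩ := Nat.exists_eq_succ_of_ne_zero hq.ne'
  have hK : m • 𝟙 (kernel (m • 𝟙 J)) = 0 := by
    rw [← cancel_mono (kernel.ι (m • 𝟙 J)), zero_comp, Preadditive.nsmul_comp, Category.id_comp]
    have := kernel.condition (m • 𝟙 J)
    rwa [Preadditive.comp_nsmul, Category.comp_id] at this
  have h1 := hcmp_bijective X H _ (isTorsion_of_killed X m hm hK) (q + 1)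
  have h2 : Subsingleton (EtCoh.H X (kernel (m • 𝟙 J)) (q + 1)) :=
    subsingleton_ext_tor X J m hm q
  exact h1.2.subsingleton

end Groth.Agent.An.H866.ProperT
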