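import Groth.Prelude.Def_AnEps
import Groth.Agent.An.H889.OCoh
import Groth.Agent.An.H886.EtSpace
import Groth.Agent.An.H885.ClConst
import Groth.Agent.An.H890.SqPush

/-!
# The class `Acal` of analytic sheaves which are finite locally constant along algebraic strata

`clPab G`: the presheaf of sections of a sheaf on the classical site over the opens of the space.
`Acal S G`: for every irreducible closed `Z ⊆ S` there is an open `U` meeting `Z` such that `G` is
locally constant with finite stalks along `Z`, near each complex point of `Z ∩ U`.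
-/

set_option autoImplicit false
open CategoryTheory AlgebraicGeometry TopologicalSpace Topology Opposite

noncomputable section

namespace Groth.Agent.An.H866.T2Defs

open Groth.Agent.An.H889.OCoh

section Top

variable {T : Type} [TopologicalSpace T]

/-- The sections of a sheaf on the classical site over the opens of the space. -/
def clPab (G : An.Cl.Ab T) : PAb.{1} T where
  F V := An.Cl.sect G ((An.opensToCl T).obj V)
  res k := (G.obj.map ((An.opensToCl T).map (homOfLE k)).op).hom
  res_self U a := by
    have h : homOfLE (le_rfl : U ≤ U) = 𝟙 U := rfl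
    rw [h, CategoryTheory.Functor.map_id, op_id, CategoryTheory.Functor.map_id]
    rfl
  res_res {U V W} h k a := by
    have e : homOfLE (k.trans h) = homOfLE k ≫ homOfLE h := rfl
    rw [e, CategoryTheory.Functor.map_comp, op_comp, CategoryTheory.Functor.map_comp]
    rfl

theorem clPab_F (G : An.Cl.Ab T) (V : Opens T) :
    (clPab G).F V = An.Cl.sect G ((An.opensToCl T).obj V) := rfl

theorem clPab_res (G : An.Cl.Ab T) {U V : Opens T} (k : V ≤ U) (a : (clPab G).F U) :
    (clPab G).res k a =
      Groth.Agent.An.H886.EtSpace.res G ((An.opensToCl T).map (homOfLE k)) a := rfl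

/-- `G` is locally constant with finite stalks along `Z`, near `z`. -/
def LCat (G : An.Cl.Ab T) (Z : Set T) (z : T) : Prop := (clPab G).LCat Z z

end Top

/-- `G` is locally constant with finite stalks along an open part of every irreducible closed
subset of the scheme. -/
def Acal (S : Scheme.{0}) [S.Over An.SC] (G : An.Cl.Ab (An.Pts S)) : Prop :=
  ∀ Z : Set S, IsClosed Z → IsIrreducible Z → ∃ U : S.Opens, (Z ∩ U).Nonempty ∧
    ∀ z : An.Pts S, z.pt ∈ U → z.pt ∈ Z → LCat G {t | t.pt ∈ Z} z

/-- Every germ of `A` at a complex point of an étale `U` extends to an étale neighbourhood. -/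
def ExtGerms (S : Scheme.{0}) [S.Over An.SC] [LocallyOfFiniteType (S ↘ An.SC)] [Fact An.EtaleLH]
    (A : An.Cl.Ab (An.Pts S)) : Prop :=
  ∀ (U : S.Etale) (C : An.Cl (An.Pts S)) (k : C ⟶ (An.eps S).obj U) (c : C.E)
    (α : An.Cl.sect A C), ∃ (V : S.Etale) (g : V ⟶ U) (b : ((An.eps S).obj V).E)
    (α' : An.Cl.sect A ((An.eps S).obj V)),
    ((An.eps S).map g).toFun b = k.toFun c ∧ Groth.Agent.An.H886.EtSpace.GEq A c b α α'

/-- The sheaves used for embeddings. -/
structure Good (S : Scheme.{0}) [S.Over An.SC] [LocallyOfFiniteType (S ↘ An.SC)]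
    [Fact An.EtaleLH] [An.EpsCont S] (A : An.Cl.Ab (An.Pts S)) : Prop where
  acal : Acal S A
  acyc : ∀ q : ℕ, 0 < q → Limits.IsZero ((An.epsRpush S q).obj A)
  ext : ExtGerms S A

end Groth.Agent.An.H866.T2Defs
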