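import Groth.Agent.An.H866.T2Triv
import Groth.Agent.An.H890.ULiftSite
import Groth.Agent.An.H885.ClConst
import Groth.Agent.An.H877.Val
import Groth.Agent.An.H882.FinPush

/-!
# From a framing to a morphism to the direct image of a constant sheaf

`ρ : Y → T` continuous, `Y₀ ⊆ Y` open and dense such that `Y` is unibranch along the complement, `G` a
sheaf on the classical site of `T` with a framing along `ρ|Y₀` with finite group `M`.  Then there is a
morphism `G ⟶ ρ_* M` which is injective on the germs at the points of `ρ(Y₀)`.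
-/

set_option autoImplicit false
open CategoryTheory TopologicalSpace Topology Opposite Filter

noncomputable section

namespace Groth.Agent.An.H866.T2Map

open Groth.Agent.An.H889.OCoh Groth.Agent.An.H886.EtSpace T2Defs T2Triv
open Groth.Agent.An.H884.ClBC Groth.Agent.An.H890.ULiftSite

/-- `Y₀` is open and dense and near every point, a subset which is clopen in `Y₀` near the point
contains all points of `Y₀` or none. -/
structure Unibr {Y : Type} [TopologicalSpace Y] (Y₀ : Set Y) : Prop where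
  isOpen : IsOpen Y₀
  dense : ∀ y, ∃ᶠ z in 𝓝 y, z ∈ Y₀
  ub : ∀ (y : Y) (E : Set Y), (∀ᶠ x in 𝓝 y, x ∈ Y₀ → ∀ᶠ z in 𝓝 x, (z ∈ E ↔ x ∈ E)) →
    (∀ᶠ x in 𝓝 y, x ∈ Y₀ → x ∉ E) ∨ (∀ᶠ x in 𝓝 y, x ∈ Y₀ → x ∈ E)

variable {T Y : Type} [TopologicalSpace T] [TopologicalSpace Y] (ρ : C(Y, T)) {Y₀ : Set Y}
  {G : An.Cl.Ab T} {M : Type} [AddCommGroup M]
  (F : Framing G (fun y : Y₀ => ρ y) M)

/-- `m` is the limit of the coordinates of the germs of `s` at the points near `(b, y)`. -/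
def Rel {B : An.Cl T} (b : B.E) (y : Y) (s : An.Cl.sect G B) (m : M) : Prop :=
  ∀ᶠ q : B.E × Y in 𝓝 (b, y), B.p q.1 = ρ q.2 → ∀ hz : q.2 ∈ Y₀,
    GEq G q.1 (pt' (ρ q.2) (F.isFrame ⟨q.2, hz⟩).mem) s (F.fr ⟨q.2, hz⟩ m)

variable {ρ F}

theorem Rel.eventually {B : An.Cl T} {b : B.E} {y : Y} {s : An.Cl.sect G B} {m : M}
    (h : Rel ρ F b y s m) : ∀ᶠ q : B.E × Y in 𝓝 (b, y), Rel ρ F q.1 q.2 s m :=
  h.eventually_nhds

theorem Rel.add {B : An.Cl T} {b : B.E} {y : Y} {s s' : An.Cl.sect G B} {m m' : M}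
    (h : Rel ρ F b y s m) (h' : Rel ρ F b y s' m') : Rel ρ F b y (s + s') (m + m') := by
  filter_upwards [h, h'] with q h1 h2 e hz
  rw [map_add]
  exact GEq.add (h1 e hz) (h2 e hz)

theorem Rel.res {B C : An.Cl T} (k : C ⟶ B) {c : C.E} {y : Y} {s : An.Cl.sect G B} {m : M}
    (h : Rel ρ F (k.toFun c) y s m) : Rel ρ F c y (res G k s) m := by
  have h1 : Continuous (fun q : C.E × Y => ((k.toFun q.1, q.2) : B.E × Y)) :=
    (k.continuous.comp continuous_fst).prodMk continuous_snd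
  have h2 := (h1.tendsto (c, y)).eventually h
  filter_upwards [h2] with q hq e hz
  exact (hq ((k.over q.1).trans e) hz).res_left k q.1 rfl

/-- Above a point `(b, y)` of the fibre product there are points with second coordinate in `Y₀`
arbitrarily close. -/
theorem frequently_mem (hY : Unibr Y₀) {B : An.Cl T} {b : B.E} {y : Y} (e : B.p b = ρ y) :
    ∃ᶠ q : B.E × Y in 𝓝 (b, y), B.p q.1 = ρ q.2 ∧ q.2 ∈ Y₀ := by
  rw [Filter.frequently_iff]
  intro U hU
  obtain ⟨V, hV, k, hk⟩ := Groth.Agent.An.H885.ClPoint.exists_section b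
  have hVy : ρ y ∈ V := e ▸ hV
  have hk' : k.toFun (pt' (ρ y) hVy) = b := by
    have : pt' (B.p b) hV = pt' (ρ y) hVy := Subtype.ext e
    rw [← this]
    exact hk
  have hN : ∃ N : Set (op' V).E, IsOpen N ∧ pt' (ρ y) hVy ∈ N ∧ ∃ W ∈ 𝓝 y, ∀ v ∈ N, ∀ z ∈ W,
      (k.toFun v, z) ∈ U := by
    have hc : Continuous (fun q : (op' V).E × Y => ((k.toFun q.1, q.2) : B.E × Y)) :=
      (k.continuous.comp continuous_fst).prodMk continuous_snd
    have hU' : (fun q : (op' V).E × Y => ((k.toFun q.1, q.2) : B.E × Y)) ⁻¹' U ∈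
        𝓝 (pt' (ρ y) hVy, y) := hc.continuousAt.preimage_mem_nhds (by
      change U ∈ 𝓝 (k.toFun (pt' (ρ y) hVy), y)
      rw [hk']
      exact hU)
    rw [nhds_prod_eq, Filter.mem_prod_iff] at hU'
    obtain ⟨N, hN, W, hW, hNW⟩ := hU'
    obtain ⟨N', hN', ho, hm⟩ := mem_nhds_iff.1 hN
    exact ⟨N', ho, hm, W, hW, fun v hv z hz => hNW (Set.mk_mem_prod (hN' hv) hz)⟩
  obtain ⟨N, hNo, hNm, W, hW, hNW⟩ := hN
  have h1 := eventually_op ρ.continuous hNo hVy hNm
  obtain ⟨z, hz, ⟨hz1, hz2⟩, hz3⟩ := ((hY.dense y).and_eventually (h1.and hW)).exists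
  exact ⟨(k.toFun (pt' (ρ z) hz1), z), hNW _ hz2 _ hz3, k.over _, hz⟩

theorem Rel.unique (hY : Unibr Y₀) {B : An.Cl T} {b : B.E} {y : Y} (e : B.p b = ρ y)
    {s : An.Cl.sect G B} {m m' : M} (h : Rel ρ F b y s m) (h' : Rel ρ F b y s m') : m = m' := by
  obtain ⟨q, ⟨h1, h2⟩, h3, h4⟩ := ((frequently_mem hY e).and_eventually (h.and h')).exists
  obtain ⟨n, -, hn⟩ := (F.isFrame ⟨q.2, h2⟩).choose_spec B q.1 s h1
  rw [hn m (h3 h1 h2), hn m' (h4 h1 h2)]

theorem exists_rel [Finite M] (hY : Unibr Y₀) {B : An.Cl T} {b : B.E} {y : Y} (e : B.p b = ρ y)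
    (s : An.Cl.sect G B) : ∃ m, Rel ρ F b y s m := by
  obtain ⟨V, hV, k, hk⟩ := Groth.Agent.An.H885.ClPoint.exists_section b
  have hVy : ρ y ∈ V := e ▸ hV
  have hk' : k.toFun (pt' (ρ y) hVy) = b := by
    have : pt' (B.p b) hV = pt' (ρ y) hVy := Subtype.ext e
    rw [← this]
    exact hk
  -- the set where the coordinate is `m`
  let E : M → Set Y := fun m => {z | ∃ (hz : z ∈ Y₀) (hv : ρ z ∈ V),
    GEq G (k.toFun (pt' (ρ z) hv)) (pt' (ρ z) (F.isFrame ⟨z, hz⟩).mem) s (F.fr ⟨z, hz⟩ m)}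
  have hEopen : ∀ m z, z ∈ E m → ∀ᶠ w in 𝓝 z, w ∈ E m := by
    rintro m z ⟨hz, hv, hG⟩
    obtain ⟨N, N', hN, hN', hbN, hzN', hNN⟩ := GEq.eventually hG
    have hc : Continuous (fun w : Y₀ => ρ w) := ρ.continuous.comp continuous_subtype_val
    have e1 := eventually_op (y₀ := (⟨z, hz⟩ : Y₀)) hc (hN.preimage k.continuous) hv hbN
    have e2 := eventually_op (y₀ := (⟨z, hz⟩ : Y₀)) hc hN' (F.isFrame ⟨z, hz⟩).mem hzN'
    have e3 := F.loc ⟨z, hz⟩
    rw [← hY.isOpen.isOpenEmbedding_subtypeVal.map_nhds_eq ⟨z, hz⟩, Filter.eventually_map]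
    filter_upwards [e1, e2, e3] with w ⟨a1, a2⟩ ⟨a3, a4⟩ a5
    obtain ⟨a6, a7⟩ := a5 m
    exact ⟨w.2, a1, (hNN _ a2 _ a4 (k.over _)).trans a7.symm⟩
  have hcov : ∀ z, z ∈ Y₀ → ρ z ∈ V → ∃ m, z ∈ E m := by
    intro z hz hv
    obtain ⟨m, hm, -⟩ := (F.isFrame ⟨z, hz⟩).choose_spec B (k.toFun (pt' (ρ z) hv)) s (k.over _)
    exact ⟨m, hz, hv, hm⟩
  have hdisj : ∀ m m' z, z ∈ E m → z ∈ E m' → m = m' := by
    rintro m m' z ⟨hz, hv, h1⟩ ⟨_, _, h2⟩
    obtain ⟨n, -, hn⟩ := (F.isFrame ⟨z, hz⟩).choose_spec B (k.toFun (pt' (ρ z) hv)) s (k.over _)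
    rw [hn m h1, hn m' h2]
  have hVn : ∀ᶠ z in 𝓝 y, ρ z ∈ V := (V.2.preimage ρ.continuous).mem_nhds hVy
  have hub : ∀ m, (∀ᶠ x in 𝓝 y, x ∈ Y₀ → x ∉ E m) ∨ (∀ᶠ x in 𝓝 y, x ∈ Y₀ → x ∈ E m) := by
    intro m
    refine hY.ub y (E m) ?_
    filter_upwards [hVn] with x hxV hx0
    obtain ⟨n, hn⟩ := hcov x hx0 hxV
    filter_upwards [hEopen n x hn] with z hz
    constructor
    · intro h
      rw [hdisj m n z h hz]
      exact hn
    · intro h
      rw [hdisj m n x h hn]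
      exact hz
  have hex : ∃ m, ∀ᶠ x in 𝓝 y, x ∈ Y₀ → x ∈ E m := by
    by_contra hne
    have h1 : ∀ m, ∀ᶠ x in 𝓝 y, x ∈ Y₀ → x ∉ E m := fun m =>
      (hub m).resolve_right (fun h => hne ⟨m, h⟩)
    obtain ⟨z, hz, hz1, hz2⟩ := ((hY.dense y).and_eventually
      ((Filter.eventually_all.2 h1).and hVn)).exists
    obtain ⟨m, hm⟩ := hcov z hz hz2
    exact hz1 m hz hm
  obtain ⟨m, hm⟩ := hex
  refine ⟨m, ?_⟩
  -- points near `b` are of the form `k v`
  have h1 : ∀ᶠ q : B.E × Y in 𝓝 (b, y), q.1 ∈ Set.range k.toFun :=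
    continuous_fst.continuousAt.eventually (p := fun w => w ∈ Set.range k.toFun)
      ((Groth.Agent.An.H886.EtSpace.isLocalHomeomorph_toFun k).isOpenMap.isOpen_range.mem_nhds ⟨_, hk'⟩)
  have h2 : ∀ᶠ q : B.E × Y in 𝓝 (b, y), q.2 ∈ Y₀ → q.2 ∈ E m :=
    (continuous_snd.tendsto (b, y)).eventually hm
  filter_upwards [h1, h2] with q h3 h4 h5 hz
  obtain ⟨_, hv, h6⟩ := h4 hz
  obtain ⟨v, hv'⟩ := h3
  have h7 : k.toFun (pt' (ρ q.2) hv) = q.1 := by
    have h8 : (op' V).p v = ρ q.2 := by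
      rw [← k.over v, hv', h5]
    rw [← hv']
    exact congrArg k.toFun (Subtype.ext h8.symm)
  rw [← h7]
  exact h6

/-! ### Sections of the constant sheaf -/

section Const

variable {B C : An.Cl Y}

/-- The value of a section of the constant sheaf. -/
def cv (s : An.Cl.sect (An.Cl.const Y M) B) (b : B.E) : M :=
  Groth.Agent.An.H877.Val.val (Groth.Agent.An.H885.ClConst.isConstVia_constSec M (An.Cl.self Y))
    (toSelf B) s b

theorem comp_toSelf (k : C ⟶ B) : k ≫ toSelf B = toSelf C :=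
  An.Cl.hom_ext (funext fun c => k.over c)

theorem cv_res (k : C ⟶ B) (s : An.Cl.sect (An.Cl.const Y M) B) (c : C.E) :
    cv (res _ k s) c = cv s (k.toFun c) := by
  have h := Groth.Agent.An.H877.Val.val_res
    (Groth.Agent.An.H885.ClConst.isConstVia_constSec M (An.Cl.self Y)) (toSelf B) s k c
  rw [comp_toSelf] at h
  exact h

theorem cv_add (s s' : An.Cl.sect (An.Cl.const Y M) B) (b : B.E) :
    cv (s + s') b = cv s b + cv s' b := Groth.Agent.An.H877.Val.val_add _ _ _ _ _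

theorem cv_zero (b : B.E) : cv (0 : An.Cl.sect (An.Cl.const Y M) B) b = 0 :=
  Groth.Agent.An.H877.Val.val_zero _ _ _

theorem cv_ext {s s' : An.Cl.sect (An.Cl.const Y M) B} (h : ∀ b, cv s b = cv s' b) : s = s' :=
  Groth.Agent.An.H877.Val.ext_of_val _ (toSelf B) h

theorem cv_constSec (m : M) (b : B.E) :
    cv (Groth.Agent.An.H885.ClConst.constSec M B m) b = m := by
  refine Groth.Agent.An.H877.Val.val_eq _ (toSelf B) _ (𝟙 B) b ?_
  rw [Groth.Agent.An.H885.ClConst.res_constSec, Groth.Agent.An.H885.ClConst.res_constSec]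

theorem exists_cv {φ : B.E → M} (hφ : IsLocallyConstant φ) :
    ∃ s : An.Cl.sect (An.Cl.const Y M) B, ∀ b, cv s b = φ b := by
  obtain ⟨z, hz⟩ := Groth.Agent.An.H882.FinPush.exists_glue_disjoint (An.Cl.const Y M) (A := B)
    (fun m : M => φ ⁻¹' {m}) (fun m => hφ {m}) (fun a => ⟨φ a, rfl⟩)
    (fun i j hij => by
      rw [Set.disjoint_left]
      intro a ha hb
      exact hij (ha.symm.trans hb))
    (fun m => Groth.Agent.An.H885.ClConst.constSec M _ m)
  refine ⟨z, fun b => ?_⟩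
  have h1 := cv_res (B.restrictOpenι (φ ⁻¹' {φ b}) (hφ {φ b})) z (⟨b, rfl⟩ : φ ⁻¹' {φ b})
  rw [hz, cv_constSec] at h1
  exact h1.symm

/-- The section of the constant sheaf with the given values. -/
def ofFun {φ : B.E → M} (hφ : IsLocallyConstant φ) : An.Cl.sect (An.Cl.const Y M) B :=
  (exists_cv hφ).choose

theorem cv_ofFun {φ : B.E → M} (hφ : IsLocallyConstant φ) (b : B.E) : cv (ofFun hφ) b = φ b :=
  (exists_cv hφ).choose_spec b

end Const

/-! ### The morphism -/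

variable [Finite M] (hY : Unibr Y₀)

variable (F) in
/-- The limit of the coordinates. -/
def lim {B : An.Cl T} (s : An.Cl.sect G B) (q : ((clBC ρ).obj B).E) : M :=
  (exists_rel (F := F) hY q.2.symm s).choose

theorem lim_spec {B : An.Cl T} (s : An.Cl.sect G B) (q : ((clBC ρ).obj B).E) :
    Rel ρ F q.1.2 q.1.1 s (lim F hY s q) :=
  (exists_rel (F := F) hY q.2.symm s).choose_spec

theorem lim_eq {B : An.Cl T} {s : An.Cl.sect G B} {q : ((clBC ρ).obj B).E} {m : M}
    (h : Rel ρ F q.1.2 q.1.1 s m) : lim F hY s q = m :=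
  Rel.unique hY q.2.symm (lim_spec hY s q) h

theorem isLocallyConstant_lim {B : An.Cl T} (s : An.Cl.sect G B) :
    IsLocallyConstant (lim F hY s) := by
  rw [IsLocallyConstant.iff_eventually_eq]
  intro q
  have h1 : Continuous (fun q : ((clBC ρ).obj B).E => ((q.1.2, q.1.1) : B.E × Y)) :=
    (continuous_snd.comp continuous_subtype_val).prodMk
      (continuous_fst.comp continuous_subtype_val)
  filter_upwards [(h1.tendsto q).eventually (lim_spec (F := F) hY s q).eventually] with q' hq'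
  exact lim_eq hY hq'

theorem lim_add {B : An.Cl T} (s s' : An.Cl.sect G B) (q : ((clBC ρ).obj B).E) :
    lim F hY (s + s') q = lim F hY s q + lim F hY s' q :=
  lim_eq hY ((lim_spec hY s q).add (lim_spec hY s' q))

theorem lim_res {B C : An.Cl T} (k : C ⟶ B) (s : An.Cl.sect G B) (q : ((clBC ρ).obj C).E) :
    lim F hY (res G k s) q = lim F hY s (((clBC ρ).map k).toFun q) :=
  lim_eq (F := F) hY (Rel.res k (lim_spec (F := F) hY s (((clBC ρ).map k).toFun q)))

variable (F) in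
/-- The component of the morphism. -/
def mapSect (B : An.Cl T) : An.Cl.sect G B →+ An.Cl.sect (An.Cl.const Y M) ((clBC ρ).obj B) where
  toFun s := ofFun (isLocallyConstant_lim (F := F) hY s)
  map_zero' := by
    refine cv_ext fun b => ?_
    rw [cv_ofFun, cv_zero]
    have h := lim_add (F := F) hY (0 : An.Cl.sect G B) 0 b
    rw [add_zero] at h
    exact left_eq_add.1 h
  map_add' s s' := cv_ext fun b => by rw [cv_ofFun, cv_add, cv_ofFun, cv_ofFun, lim_add]

theorem cv_mapSect {B : An.Cl T} (s : An.Cl.sect G B) (q : ((clBC ρ).obj B).E) :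
    cv (mapSect F hY B s) q = lim F hY s q :=
  cv_ofFun (isLocallyConstant_lim (F := F) hY s) q

variable (F) in
/-- The morphism to the direct image of the constant sheaf. -/
def toPush : G ⟶ (pushCl ρ).obj (An.Cl.const Y M) where
  hom :=
    { app := fun B => AddCommGrpCat.ofHom (mapSect F hY B.unop)
      naturality := fun B C k => by
        ext s
        change mapSect F hY C.unop (res G k.unop s) =
          res (An.Cl.const Y M) ((clBC ρ).map k.unop) (mapSect F hY B.unop s)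
        refine cv_ext fun q => ?_
        rw [cv_mapSect, cv_res, cv_mapSect, lim_res] }

theorem toPush_app (B : An.Cl T) (s : An.Cl.sect G B) :
    ((toPush F hY).hom.app (op B)).hom s = mapSect F hY B s := rfl

/-- The morphism is injective on germs above the image of `Y₀`. -/
theorem GEq_zero_of_toPush {B : An.Cl T} (s : An.Cl.sect G B)
    (hs' : ((toPush F hY).hom.app (op B)).hom s = 0) (b : B.E) (y : Y) (hy : y ∈ Y₀)
    (e : B.p b = ρ y) : GEq G b b s 0 := by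
  have hs : mapSect F hY B s = 0 := hs'
  have h1 : lim F hY s (⟨(y, b), e.symm⟩ : ((clBC ρ).obj B).E) = 0 := by
    rw [← cv_mapSect, hs, cv_zero]
  have h2 := lim_spec (F := F) hY s (⟨(y, b), e.symm⟩ : ((clBC ρ).obj B).E)
  rw [h1] at h2
  have h3 := h2.self_of_nhds e hy
  rw [map_zero] at h3
  exact h3.trans (GEq.zero _ _ (by exact e.symm))

end Groth.Agent.An.H866.T2Map
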