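import Mathlib.RingTheory.NoetherNormalization
import Mathlib.RingTheory.DedekindDomain.IntegralClosure
import Mathlib.RingTheory.Polynomial.RationalRoot
import Mathlib.RingTheory.Polynomial.UniqueFactorization
import Mathlib.RingTheory.Localization.Finiteness
import Mathlib.RingTheory.EssentialFiniteness
import Mathlib.RingTheory.Localization.InvSubmonoid
import Mathlib.FieldTheory.IntermediateField.Adjoin.Algebra
import Mathlib.Analysis.Complex.Basic

/-!
# Normalization in a finite cover of an open subset

`D` a domain of finite type over `ℂ`, `0 ≠ f ∈ D`, `A = D_f`, `C` a finite `A`-algebra containing `A`.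
Then there are a normal domain `B'`, finite over `D` and containing `D`, and a morphism `C → B'_f`
over `D`.
-/

set_option autoImplicit false

namespace Groth.Agent.An.H866.T2Ring

open nonZeroDivisors

theorem integralClosure_props (D : Type*) [CommRing D] [IsDomain D] [Algebra ℂ D]
    [Algebra.FiniteType ℂ D] (C₁ : Type*) [CommRing C₁] [IsDomain C₁] [Algebra D C₁]
    [FaithfulSMul D C₁] [Algebra.FiniteType D C₁] [Algebra.IsAlgebraic D C₁] :
    Module.Finite D (integralClosure D (FractionRing C₁)) ∧
      IsIntegrallyClosed (integralClosure D (FractionRing C₁)) := by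
  obtain ⟨n, g, hginj, hgfin⟩ := exists_finite_inj_algHom_of_fg ℂ D
  let R := MvPolynomial (Fin n) ℂ
  let _ : Algebra R D := g.toRingHom.toAlgebra
  have hfs : FaithfulSMul R D := (faithfulSMul_iff_algebraMap_injective _ _).2 hginj
  have hfin : Module.Finite R D := hgfin
  let _ : Algebra R C₁ := ((algebraMap D C₁).comp (algebraMap R D)).toAlgebra
  have : IsScalarTower R D C₁ := IsScalarTower.of_algebraMap_eq (fun _ => rfl)
  have : FaithfulSMul R C₁ := (faithfulSMul_iff_algebraMap_injective _ _).2
    ((FaithfulSMul.algebraMap_injective D C₁).comp (FaithfulSMul.algebraMap_injective R D))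
  let K := FractionRing R
  let L := FractionRing C₁
  let _ : Algebra K L := FractionRing.liftAlgebra R L
  have : IsScalarTower R K L := FractionRing.isScalarTower_liftAlgebra R L
  have : Algebra.IsAlgebraic R D := inferInstance
  have : Algebra.IsAlgebraic R C₁ := Algebra.IsAlgebraic.trans R D C₁
  have : Algebra.FiniteType R C₁ := Algebra.FiniteType.trans (S := D) inferInstance inferInstance
  have : Algebra.EssFiniteType C₁ L := Algebra.EssFiniteType.of_isLocalization L C₁⁰
  have : Algebra.EssFiniteType R L := Algebra.EssFiniteType.comp R C₁ L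
  have : Algebra.EssFiniteType K L := Algebra.EssFiniteType.of_comp R K L
  have : Algebra.IsAlgebraic R L := (IsFractionRing.isAlgebraic_iff' R C₁ L).1 inferInstance
  have : Algebra.IsAlgebraic K L := (IsFractionRing.comap_isAlgebraic_iff (A := R) (K := K)).1 inferInstance
  have : FiniteDimensional K L := Algebra.finite_of_essFiniteType_of_isAlgebraic
  have : CharZero R := inferInstance
  have : CharZero K := charZero_of_injective_algebraMap (IsFractionRing.injective R K)
  have : Algebra.IsSeparable K L := inferInstance
  have : IsScalarTower R D L := IsScalarTower.of_algebraMap_eq (fun r => by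
    rw [IsScalarTower.algebraMap_apply R C₁ L, IsScalarTower.algebraMap_apply R D C₁,
      ← IsScalarTower.algebraMap_apply D C₁ L])
  have hic : IsIntegralClosure (integralClosure D L) R L :=
    { algebraMap_injective := Subtype.val_injective
      isIntegral_iff := fun {x} => by
        constructor
        · intro hx
          have h1 : IsIntegral D x := hx.tower_top
          exact ⟨⟨x, h1⟩, rfl⟩
        · rintro ⟨y, rfl⟩
          exact isIntegral_trans (R := R) (A := D) _ y.2 }
  constructor
  · have h1 : Module.Finite R (integralClosure D L) := IsIntegralClosure.finite R K L _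
    exact Module.Finite.of_restrictScalars_finite R D _
  · have : IsFractionRing (integralClosure D L) L :=
      IsIntegralClosure.isFractionRing_of_finite_extension R K L _
    exact (IsIntegrallyClosed.integralClosure_eq_bot_iff L).mp integralClosure_idem

theorem exists_normal_cover (D : Type) [CommRing D] [IsDomain D] [Algebra ℂ D]
    [Algebra.FiniteType ℂ D] (f : D) (hf : f ≠ 0) (A : Type) [CommRing A] [Algebra D A]
    [IsLocalization.Away f A] (C : Type) [CommRing C] (φ : A →+* C) (hφ : φ.Finite)
    (hinj : Function.Injective φ) :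
    ∃ (B' : Type) (_ : CommRing B') (_ : IsDomain B') (_ : IsIntegrallyClosed B')
      (_ : Algebra D B') (_ : Module.Finite D B') (_ : Function.Injective (algebraMap D B'))
      (c : C →+* Localization.Away (algebraMap D B' f)),
      ∀ d : D, c (φ (algebraMap D A d)) =
        algebraMap B' (Localization.Away (algebraMap D B' f)) (algebraMap D B' d) := by
  have hfD : Submonoid.powers f ≤ D⁰ := powers_le_nonZeroDivisors_of_noZeroDivisors hf
  have hA : IsDomain A := IsLocalization.isDomain_of_le_nonZeroDivisors A hfD
  have hDA : Function.Injective (algebraMap D A) := IsLocalization.injective A hfD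
  let _ : Algebra A C := φ.toAlgebra
  have : Module.Finite A C := hφ
  obtain ⟨q, -, hq, hqc⟩ := Ideal.exists_ideal_over_prime_of_isIntegral (R := A) (S := C) ⊥ ⊥
    (le_of_eq ((RingHom.injective_iff_ker_eq_bot (algebraMap A C)).1 hinj))
  have hAC : Function.Injective (algebraMap A (C ⧸ q)) := by
    rw [injective_iff_map_eq_zero]
    intro a ha
    have : algebraMap A C a ∈ q := Ideal.Quotient.eq_zero_iff_mem.1 ha
    have h2 : a ∈ q.comap (algebraMap A C) := this
    rw [hqc] at h2
    exact h2
  let _ : Algebra D (C ⧸ q) := ((algebraMap A (C ⧸ q)).comp (algebraMap D A)).toAlgebra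
  have : IsScalarTower D A (C ⧸ q) := IsScalarTower.of_algebraMap_eq (fun _ => rfl)
  have : FaithfulSMul D (C ⧸ q) := (faithfulSMul_iff_algebraMap_injective _ _).2 (hAC.comp hDA)
  have : Algebra.FiniteType D A := IsLocalization.finiteType_of_monoid_fg (Submonoid.powers f) A
  have : Algebra.FiniteType D (C ⧸ q) := Algebra.FiniteType.trans (S := A) inferInstance inferInstance
  have : Algebra.IsAlgebraic D A := IsLocalization.isAlgebraic A (Submonoid.powers f)
  have : FaithfulSMul A (C ⧸ q) := (faithfulSMul_iff_algebraMap_injective _ _).2 hAC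
  have : Algebra.IsAlgebraic D (C ⧸ q) := Algebra.IsAlgebraic.trans D A (C ⧸ q)
  obtain ⟨h1, h2⟩ := integralClosure_props D (C ⧸ q)
  set L := FractionRing (C ⧸ q) with hL
  set B' := integralClosure D L with hB'
  have hDL : Function.Injective (algebraMap D L) := by
    rw [IsScalarTower.algebraMap_eq D (C ⧸ q) L]
    exact (IsFractionRing.injective (C ⧸ q) L).comp (FaithfulSMul.algebraMap_injective D (C ⧸ q))
  have hDB : Function.Injective (algebraMap D B') := by
    intro x y hxy
    exact hDL (congrArg (algebraMap B' L) hxy)
  have hfL : algebraMap D L f ≠ 0 := by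
    rw [Ne, map_eq_zero_iff _ hDL]
    exact hf
  have hfB : algebraMap D B' f ≠ 0 := by
    rw [Ne, map_eq_zero_iff _ hDB]
    exact hf
  let j : Localization.Away (algebraMap D B' f) →+* L :=
    IsLocalization.Away.lift (algebraMap D B' f) (g := algebraMap B' L)
      (isUnit_iff_ne_zero.2 hfL)
  have hj : Function.Injective j := by
    refine (IsLocalization.lift_injective_iff _).2 fun x y => ?_
    rw [(IsLocalization.injective (Localization.Away (algebraMap D B' f))
      (powers_le_nonZeroDivisors_of_noZeroDivisors hfB)).eq_iff]
    exact (Subtype.val_injective.eq_iff (a := x) (b := y)).symm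
  have hjB : ∀ b : B', j (algebraMap B' _ b) = algebraMap B' L b := fun b =>
    IsLocalization.Away.lift_eq _ _ _
  let κ : C →+* L := (algebraMap (C ⧸ q) L).comp (Ideal.Quotient.mk q)
  have hκ : ∀ c, κ c ∈ j.range := by
    intro c
    have h3 : IsIntegral A (κ c) :=
      (Algebra.IsIntegral.isIntegral (R := A) c).map
        ((IsScalarTower.toAlgHom A (C ⧸ q) L).comp (Ideal.Quotient.mkₐ A q))
    obtain ⟨⟨_, n, rfl⟩, h4⟩ := IsIntegral.exists_multiple_integral_of_isLocalization
      (Submonoid.powers f) (κ c) h3
    have h5 : IsIntegral D (algebraMap D L f ^ n * κ c) := by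
      rw [← map_pow, ← Algebra.smul_def]
      exact h4
    have hu : IsUnit (algebraMap B' (Localization.Away (algebraMap D B' f)) (algebraMap D B' f)) :=
      IsLocalization.Away.algebraMap_isUnit _
    obtain ⟨u, hu'⟩ := hu
    refine ⟨(↑(u⁻¹) : Localization.Away (algebraMap D B' f)) ^ n *
      algebraMap B' _ ⟨_, h5⟩, ?_⟩
    have hju : j (u : Localization.Away (algebraMap D B' f)) = algebraMap D L f := by
      rw [hu', hjB]
      rfl
    have hjui : j (↑(u⁻¹) : Localization.Away (algebraMap D B' f)) * algebraMap D L f = 1 := by
      rw [← hju, ← map_mul, Units.inv_mul, map_one]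
    rw [map_mul, map_pow, hjB]
    change j (↑(u⁻¹)) ^ n * (algebraMap D L f ^ n * κ c) = κ c
    rw [← mul_assoc, ← mul_pow, hjui, one_pow, one_mul]
  let e : Localization.Away (algebraMap D B' f) ≃+* j.range :=
    RingEquiv.ofBijective j.rangeRestrict
      ⟨fun x y h => hj (congrArg Subtype.val h), j.rangeRestrict_surjective⟩
  have he : ∀ z : j.range, j (e.symm z) = z := fun z =>
    congrArg Subtype.val (e.apply_symm_apply z)
  refine ⟨B', inferInstance, inferInstance, h2, inferInstance, h1, hDB,
    e.symm.toRingHom.comp (κ.codRestrict j.range hκ), fun d => hj ?_⟩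
  have h6 := he (κ.codRestrict j.range hκ (φ (algebraMap D A d)))
  rw [hjB]
  refine h6.trans ?_
  rfl

end Groth.Agent.An.H866.T2Ring
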