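import Groth.Agent.An.H866.T2Defs
import Groth.Agent.An.H885.ClPoint
import Mathlib.Topology.FiberBundle.Basic
import Mathlib.Topology.Covering.Basic
import Mathlib.Algebra.Group.Shrink
import Mathlib.Topology.Connected.Clopen

/-!
# The trivializing covering of a sheaf which is locally constant along a subset

Let `g : X → T` be continuous, `X` connected, and `G` a sheaf on the classical site of `T` which is
locally constant with finite stalks along `Z`, near all `g x ∈ Z`.  There are a finite group `M`, a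
finite covering `p : E → X` and, for `e ∈ E`, a frame `M ≅ G_{g (p e)}` varying locally constantly.
-/

set_option autoImplicit false
open CategoryTheory TopologicalSpace Topology Opposite Filter

noncomputable section

namespace Groth.Agent.An.H866.T2Triv

open Groth.Agent.An.H889.OCoh Groth.Agent.An.H886.EtSpace T2Defs

variable {T : Type} [TopologicalSpace T]

/-- The object of the classical site attached to an open subset. -/
abbrev op' (V : Opens T) : An.Cl T := (An.opensToCl T).obj V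

/-- The inclusion of open subsets. -/
abbrev inc {U V : Opens T} (k : V ≤ U) : op' V ⟶ op' U := (An.opensToCl T).map (homOfLE k)

/-- A point of an open subset, as a point of the attached object. -/
abbrev pt' {V : Opens T} (t : T) (ht : t ∈ V) : (op' V).E := Subtype.mk t ht

theorem p_pt' {V : Opens T} (t : T) (ht : t ∈ V) : (op' V).p (pt' t ht) = t := rfl

theorem inc_toFun {U V : Opens T} (k : V ≤ U) (t : T) (ht : t ∈ V) :
    (inc k).toFun (pt' t ht) = pt' t (k ht) := rfl

theorem mem_of_pt {V : Opens T} (v : (op' V).E) : (op' V).p v ∈ V :=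
  Subtype.property (show V from v)

theorem eq_pt' {V : Opens T} (v : (op' V).E) (t : T) (h : (op' V).p v = t) :
    v = pt' t (h ▸ mem_of_pt v) := Subtype.ext h

/-- All morphisms between open subsets are inclusions. -/
theorem le_of_hom {U V : Opens T} (f : op' V ⟶ op' U) : V ≤ U := fun v hv => by
  have h : (op' U).p (f.toFun (pt' v hv)) = v := f.over (pt' v hv)
  have h2 := mem_of_pt (f.toFun (pt' v hv))
  rwa [h] at h2

theorem hom_eq {U V : Opens T} (f : op' V ⟶ op' U) : f = inc (le_of_hom f) :=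
  An.Cl.hom_ext (funext fun v => Subtype.ext (f.over v))

variable {G : An.Cl.Ab T}

theorem GEq.sub {B B' : An.Cl T} {b : B.E} {b' : B'.E} {s s₁ : An.Cl.sect G B}
    {u u₁ : An.Cl.sect G B'} (h : GEq G b b' s u) (h' : GEq G b b' s₁ u₁) :
    GEq G b b' (s - s₁) (u - u₁) := by
  obtain ⟨C, f, f', c, h1, h2, h3⟩ := h
  obtain ⟨D, k, k', d, h4, h5, h6⟩ := h'
  obtain ⟨E, m, m', e, h7, h8, h9, -⟩ := exists_cospan f k c d (h1.trans h4.symm)
  have h10 : (m ≫ f').toFun e = (m' ≫ k').toFun e := by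
    rw [An.Cl.comp_toFun, An.Cl.comp_toFun, Function.comp_apply, Function.comp_apply, h7, h8, h2, h5]
  obtain ⟨F, l, y, hy, hl, -⟩ := exists_eq (m ≫ f') (m' ≫ k') e h10
  refine ⟨F, l ≫ m ≫ f, l ≫ m ≫ f', y, ?_, ?_, ?_⟩
  · rw [An.Cl.comp_toFun, An.Cl.comp_toFun, Function.comp_apply, Function.comp_apply, hy, h7, h1]
  · rw [An.Cl.comp_toFun, An.Cl.comp_toFun, Function.comp_apply, Function.comp_apply, hy, h7, h2]
  · rw [map_sub, map_sub]
    have e1 : res G (l ≫ m ≫ f) s = res G (l ≫ m ≫ f') u := by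
      rw [res_comp, res_comp, h3, ← res_comp, ← res_comp, Category.assoc]
    have e2 : res G (l ≫ m ≫ f) s₁ = res G (l ≫ m ≫ f') u₁ := by
      rw [h9, hl, res_comp, res_comp, h6, ← res_comp, ← res_comp, Category.assoc]
    rw [e1, e2]

theorem GEq.zero {B B' : An.Cl T} (b : B.E) (b' : B'.E) (h : B.p b = B'.p b') :
    GEq G b b' (0 : An.Cl.sect G B) (0 : An.Cl.sect G B') := by
  obtain ⟨C, f, f', c, h1, h2, -⟩ := exists_common B B' b b' h
  exact ⟨C, f, f', c, h1, h2, by rw [map_zero, map_zero]⟩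

theorem GEq.neg {B B' : An.Cl T} {b : B.E} {b' : B'.E} {s : An.Cl.sect G B}
    {u : An.Cl.sect G B'} (h : GEq G b b' s u) : GEq G b b' (-s) (-u) := by
  have := GEq.sub (GEq.zero b b' h.p_eq) h
  rwa [zero_sub, zero_sub] at this

theorem GEq.add {B B' : An.Cl T} {b : B.E} {b' : B'.E} {s s₁ : An.Cl.sect G B}
    {u u₁ : An.Cl.sect G B'} (h : GEq G b b' s u) (h' : GEq G b b' s₁ u₁) :
    GEq G b b' (s + s₁) (u + u₁) := by
  have := GEq.sub h (GEq.neg h')
  rwa [sub_neg_eq_add, sub_neg_eq_add] at this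

/-- A germ equality spreads to a neighbourhood. -/
theorem GEq.eventually {B B' : An.Cl T} {b : B.E} {b' : B'.E} {s : An.Cl.sect G B}
    {u : An.Cl.sect G B'} (h : GEq G b b' s u) :
    ∃ (N : Set B.E) (N' : Set B'.E), IsOpen N ∧ IsOpen N' ∧ b ∈ N ∧ b' ∈ N' ∧
      ∀ x ∈ N, ∀ y ∈ N', B.p x = B'.p y → GEq G x y s u := by
  obtain ⟨C, f, f', c, h1, h2, h3⟩ := h
  obtain ⟨V, hV, k, hk⟩ := Groth.Agent.An.H885.ClPoint.exists_section c
  let l := k ≫ f
  let l' := k ≫ f'
  have hl : res G l s = res G l' u := by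
    rw [res_comp, h3, ← res_comp]
  refine ⟨Set.range l.toFun, Set.range l'.toFun, (isLocalHomeomorph_toFun l).isOpenMap.isOpen_range,
    (isLocalHomeomorph_toFun l').isOpenMap.isOpen_range, ⟨⟨C.p c, hV⟩, ?_⟩, ⟨⟨C.p c, hV⟩, ?_⟩, ?_⟩
  · exact (congrArg f.toFun hk).trans h1
  · exact (congrArg f'.toFun hk).trans h2
  · rintro _ ⟨v, rfl⟩ _ ⟨v', rfl⟩ e
    have e' : v = v' := by
      have a1 : B.p (l.toFun v) = (op' V).p v := l.over v
      have a2 : B'.p (l'.toFun v') = (op' V).p v' := l'.over v'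
      exact Subtype.ext ((a1.symm.trans e).trans a2)
    subst e'
    exact ⟨_, l, l', v, rfl, rfl, hl⟩

omit [TopologicalSpace T] in
theorem eventually_sub [TopologicalSpace T] {Y : Type} [TopologicalSpace Y] {h : Y → T}
    (hh : Continuous h) {V : Opens T} {N : Set V} (hN : IsOpen N) {y₀ : Y} (k : h y₀ ∈ V)
    (hk : (⟨h y₀, k⟩ : V) ∈ N) : ∀ᶠ y in 𝓝 y₀, ∃ k : h y ∈ V, (⟨h y, k⟩ : V) ∈ N := by
  obtain ⟨W, hW, hWN⟩ := isOpen_induced_iff.1 hN
  have hm : h y₀ ∈ W := by
    have : (⟨h y₀, k⟩ : V) ∈ Subtype.val ⁻¹' W := by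
      rw [hWN]; exact hk
    exact this
  filter_upwards [(hW.preimage hh).mem_nhds hm, (V.2.preimage hh).mem_nhds k] with y h1 h2
  refine ⟨h2, ?_⟩
  rw [← hWN]
  exact h1

/-- Points near a point of an open subset of `op' V`. -/
theorem eventually_op {Y : Type} [TopologicalSpace Y] {h : Y → T}
    (hh : Continuous h) {V : Opens T} {N : Set (op' V).E} (hN : IsOpen N) {y₀ : Y} (k : h y₀ ∈ V)
    (hk : pt' (h y₀) k ∈ N) : ∀ᶠ y in 𝓝 y₀, ∃ k : h y ∈ V, pt' (h y) k ∈ N :=
  eventually_sub hh hN k hk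

/-- A frame of `G` at the point `t`: a section `M → G(V)` inducing a bijection onto the germs
at `t`. -/
def IsFrame {M : Type*} [AddCommGroup M] {V : Opens T} (ψ : M →+ An.Cl.sect G (op' V)) (t : T) :
    Prop :=
  ∃ ht : t ∈ V, ∀ (B : An.Cl T) (b : B.E) (s : An.Cl.sect G B), B.p b = t →
    ∃! m : M, GEq G b (pt' t ht) s (ψ m)

/-- `Gen` gives frames. -/
theorem isFrame_of_gen {V : Opens T} (S : AddSubgroup ((clPab G).F V)) (t : T) (ht : t ∈ V)
    (h : (clPab G).Gen S t) :
    IsFrame (M := S) (V := V) (AddSubgroup.subtype S : S →+ An.Cl.sect G (op' V)) t := by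
  refine ⟨ht, fun B b s hb => ?_⟩
  obtain ⟨V', hV', k, hk⟩ := Groth.Agent.An.H885.ClPoint.exists_section b
  have ht' : t ∈ V' := hb ▸ hV'
  have hk' : k.toFun (pt' t ht') = b := by
    have : pt' (B.p b) hV' = pt' t ht' := Subtype.ext hb
    rw [← this]
    exact hk
  obtain ⟨m, hm, V'', k1, k2, ht'', e⟩ := h.2 V' ht' (res G k s)
  refine ⟨⟨m, hm⟩, ?_, ?_⟩
  · refine ⟨op' V'', inc k2 ≫ k, inc k1, pt' t ht'', ?_, rfl, ?_⟩
    · exact hk'
    · rw [res_comp]
      exact e.symm
  · rintro ⟨m', hm'⟩ hG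
    apply Subtype.ext
    set ψ : S →+ An.Cl.sect G (op' V) := AddSubgroup.subtype S with hψ
    have h1 : GEq G (pt' t ht) (pt' t ht) (ψ ⟨m', hm'⟩) (ψ ⟨m, hm⟩) := by
      refine hG.symm.trans ?_
      refine ⟨op' V'', inc k2 ≫ k, inc k1, pt' t ht'', hk', rfl, ?_⟩
      rw [res_comp]
      exact e.symm
    obtain ⟨C, f, c, h2, h3⟩ := h1.exists_res
    obtain ⟨W, hW, l, hl⟩ := Groth.Agent.An.H885.ClPoint.exists_section c
    have hc : C.p c = t := (f.over c).symm.trans (congrArg (op' V).p h2)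
    have hW' : t ∈ W := hc ▸ hW
    have h4 : res G (l ≫ f) (ψ (⟨m', hm'⟩ - ⟨m, hm⟩)) = 0 := by
      rw [map_sub ψ, res_comp, map_sub, map_sub, h3, sub_self]
    rw [hom_eq (l ≫ f)] at h4
    exact sub_eq_zero.1 (h.1 (m' - m) (S.sub_mem hm' hm) W _ hW' h4)

namespace IsFrame

variable {M : Type*} [AddCommGroup M] {V : Opens T} {ψ : M →+ An.Cl.sect G (op' V)} {t : T}

/-- The coordinate of a germ in a frame. -/
def coord (h : IsFrame ψ t) {B : An.Cl T} (b : B.E) (s : An.Cl.sect G B) (hb : B.p b = t) : M :=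
  (h.choose_spec B b s hb).choose

theorem coord_spec (h : IsFrame ψ t) {B : An.Cl T} (b : B.E) (s : An.Cl.sect G B)
    (hb : B.p b = t) : GEq G b (pt' t h.choose) s (ψ (h.coord b s hb)) :=
  (h.choose_spec B b s hb).choose_spec.1

theorem coord_eq (h : IsFrame ψ t) {B : An.Cl T} (b : B.E) (s : An.Cl.sect G B)
    (hb : B.p b = t) {m : M} (ht : t ∈ V) (hm : GEq G b (pt' t ht) s (ψ m)) :
    h.coord b s hb = m :=
  ((h.choose_spec B b s hb).choose_spec.2 m hm).symm

theorem mem (h : IsFrame ψ t) : t ∈ V := h.choose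

theorem coord_add (h : IsFrame ψ t) {B : An.Cl T} (b : B.E) (s s' : An.Cl.sect G B)
    (hb : B.p b = t) : h.coord b (s + s') hb = h.coord b s hb + h.coord b s' hb := by
  refine h.coord_eq b _ hb h.mem ?_
  rw [map_add]
  exact GEq.add (h.coord_spec b s hb) (h.coord_spec b s' hb)

theorem coord_congr (h : IsFrame ψ t) {B B' : An.Cl T} {b : B.E} {b' : B'.E}
    {s : An.Cl.sect G B} {s' : An.Cl.sect G B'} (hb : B.p b = t) (hb' : B'.p b' = t)
    (e : GEq G b b' s s') : h.coord b s hb = h.coord b' s' hb' :=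
  h.coord_eq b s hb h.mem (e.trans (h.coord_spec b' s' hb'))

theorem GEq_of_coord_eq (h : IsFrame ψ t) {B B' : An.Cl T} {b : B.E} {b' : B'.E}
    {s : An.Cl.sect G B} {s' : An.Cl.sect G B'} (hb : B.p b = t) (hb' : B'.p b' = t)
    (e : h.coord b s hb = h.coord b' s' hb') : GEq G b b' s s' :=
  (h.coord_spec b s hb).trans (by rw [e]; exact (h.coord_spec b' s' hb').symm)

theorem coord_self (h : IsFrame ψ t) (ht : t ∈ V) (m : M) :
    h.coord (B := op' V) (pt' t ht) (ψ m) rfl = m :=
  h.coord_eq _ _ _ ht (GEq.refl _ _)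

/-- Change of frames. -/
def tr {M' : Type*} [AddCommGroup M'] {V' : Opens T} {ψ' : M' →+ An.Cl.sect G (op' V')}
    (h : IsFrame ψ t) (h' : IsFrame ψ' t) : M ≃+ M' where
  toFun m := h'.coord (B := op' V) (pt' t h.mem) (ψ m) rfl
  invFun m := h.coord (B := op' V') (pt' t h'.mem) (ψ' m) rfl
  left_inv m := h.coord_eq _ _ _ h.mem
    (h'.coord_spec (B := op' V) (pt' t h.mem) (ψ m) rfl).symm
  right_inv m := h'.coord_eq _ _ _ h'.mem
    (h.coord_spec (B := op' V') (pt' t h'.mem) (ψ' m) rfl).symm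
  map_add' m m' := by
    rw [map_add, coord_add]

theorem tr_spec {M' : Type*} [AddCommGroup M'] {V' : Opens T} {ψ' : M' →+ An.Cl.sect G (op' V')}
    (h : IsFrame ψ t) (h' : IsFrame ψ' t) (m : M) :
    GEq G (pt' t h.mem) (pt' t h'.mem) (ψ m) (ψ' (h.tr h' m)) :=
  h'.coord_spec (B := op' V) (pt' t h.mem) (ψ m) rfl

theorem tr_eq {M' : Type*} [AddCommGroup M'] {V' : Opens T} {ψ' : M' →+ An.Cl.sect G (op' V')}
    (h : IsFrame ψ t) (h' : IsFrame ψ' t) {m : M} {m' : M'}
    (e : GEq G (pt' t h.mem) (pt' t h'.mem) (ψ m) (ψ' m')) : h.tr h' m = m' :=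
  h'.coord_eq (B := op' V) (pt' t h.mem) (ψ m) rfl h'.mem e

theorem tr_self (h : IsFrame ψ t) (m : M) : h.tr h m = m := tr_eq h h (GEq.refl _ _)

theorem tr_tr {M' M'' : Type*} [AddCommGroup M'] {V' : Opens T}
    {ψ' : M' →+ An.Cl.sect G (op' V')} [AddCommGroup M''] {V'' : Opens T}
    {ψ'' : M'' →+ An.Cl.sect G (op' V'')}
    (h : IsFrame ψ t) (h' : IsFrame ψ' t) (h'' : IsFrame ψ'' t) (m : M) :
    h'.tr h'' (h.tr h' m) = h.tr h'' m :=
  (tr_eq h h'' ((tr_spec h h' m).trans (tr_spec h' h'' _))).symm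

/-- Composition of a frame with an isomorphism. -/
theorem comp {N : Type*} [AddCommGroup N] (h : IsFrame ψ t) (e : N ≃+ M) :
    IsFrame (ψ.comp e.toAddMonoidHom) t := by
  refine ⟨h.mem, fun B b s hb => ?_⟩
  refine ⟨e.symm (h.coord b s hb), ?_, ?_⟩
  · change GEq G b _ s (ψ (e (e.symm (h.coord b s hb))))
    rw [AddEquiv.apply_symm_apply]
    exact h.coord_spec b s hb
  · intro n hn
    have : h.coord b s hb = e n := h.coord_eq b s hb h.mem hn
    rw [this, AddEquiv.symm_apply_apply]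

end IsFrame

/-- A family of frames of `G` along `h : Y → T`, varying locally constantly. -/
structure Framing (G : An.Cl.Ab T) {Y : Type} [TopologicalSpace Y] (h : Y → T) (M : Type)
    [AddCommGroup M] where
  V : Y → Opens T
  fr : ∀ y, M →+ An.Cl.sect G (op' (V y))
  isFrame : ∀ y, IsFrame (fr y) (h y)
  loc : ∀ y₀, ∀ᶠ y in 𝓝 y₀, ∀ m, ∃ k : h y ∈ V y₀,
    GEq G (pt' (h y) (isFrame y).mem) (pt' (h y) k) (fr y m) (fr y₀ m)

/-- Pullback of a framing. -/
def Framing.comp {Y Y' : Type} [TopologicalSpace Y] [TopologicalSpace Y'] {h : Y → T} {M : Type}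
    [AddCommGroup M] (F : Framing G h M) (c : Y' → Y) (hc : Continuous c) :
    Framing G (h ∘ c) M where
  V y := F.V (c y)
  fr y := F.fr (c y)
  isFrame y := F.isFrame (c y)
  loc y₀ := hc.continuousAt.eventually (F.loc (c y₀))

section Cover

variable {X : Type} [TopologicalSpace X] (g : X → T)

/-- Local frames with a common group. -/
structure LocFr (G : An.Cl.Ab T) (M : Type) [AddCommGroup M] where
  V : X → Opens T
  fr : ∀ x, M →+ An.Cl.sect G (op' (V x))
  isFrame : ∀ x y, g y ∈ V x → IsFrame (fr x) (g y)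
  mem : ∀ x, g x ∈ V x

variable {g}

namespace LocFr

variable {M : Type} [AddCommGroup M] (L : LocFr g G M) (hg : Continuous g)

/-- The chart domain. -/
def U (x : X) : Set X := {y | g y ∈ L.V x}

include hg in
theorem isOpen_U (x : X) : IsOpen (L.U x) := (L.V x).2.preimage hg

theorem mem_U (x : X) : x ∈ L.U x := L.mem x

open Classical in
/-- The transition automorphisms. -/
def trans (i j : X) (x : X) : M ≃+ M :=
  if h : x ∈ L.U i ∧ x ∈ L.U j then (L.isFrame i x h.1).tr (L.isFrame j x h.2) else AddEquiv.refl M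

theorem trans_eq {i j x : X} (hi : x ∈ L.U i) (hj : x ∈ L.U j) :
    L.trans i j x = (L.isFrame i x hi).tr (L.isFrame j x hj) := dif_pos ⟨hi, hj⟩

theorem trans_spec {i j x : X} (hi : x ∈ L.U i) (hj : x ∈ L.U j) (m : M) :
    GEq G (pt' (g x) hi) (pt' (g x) hj) (L.fr i m) (L.fr j (L.trans i j x m)) := by
  rw [L.trans_eq hi hj]
  exact (L.isFrame i x hi).tr_spec (L.isFrame j x hj) m

theorem trans_unique {i j x : X} (hi : x ∈ L.U i) (hj : x ∈ L.U j) {m m' : M}
    (h : GEq G (pt' (g x) hi) (pt' (g x) hj) (L.fr i m) (L.fr j m')) : L.trans i j x m = m' := by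
  rw [L.trans_eq hi hj]
  exact (L.isFrame i x hi).tr_eq (L.isFrame j x hj) h

include hg in
theorem trans_loc [Finite M] {i j x : X} (hi : x ∈ L.U i) (hj : x ∈ L.U j) :
    ∀ᶠ y in 𝓝 x, L.trans i j y = L.trans i j x := by
  have h1 : ∀ m : M, ∀ᶠ y in 𝓝 x, L.trans i j y m = L.trans i j x m := by
    intro m
    obtain ⟨N, N', hN, hN', hx, hx', hNN⟩ := GEq.eventually (L.trans_spec hi hj m)
    filter_upwards [eventually_op hg hN hi hx, eventually_op hg hN' hj hx'] with
      y ⟨h1, h2⟩ ⟨h3, h4⟩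
    exact L.trans_unique h1 h3 (hNN _ h2 _ h4 rfl)
  filter_upwards [Filter.eventually_all.2 h1] with y hy
  exact AddEquiv.ext hy

theorem trans_self {i x : X} (hi : x ∈ L.U i) (m : M) : L.trans i i x m = m :=
  L.trans_unique hi hi (GEq.refl _ _)

theorem trans_trans {i j k x : X} (hi : x ∈ L.U i) (hj : x ∈ L.U j) (hk : x ∈ L.U k) (m : M) :
    L.trans j k x (L.trans i j x m) = L.trans i k x m :=
  (L.trans_unique hi hk ((L.trans_spec hi hj m).trans (L.trans_spec hj hk _))).symm

/-- The fibre: automorphisms of the group, with the discrete topology. -/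
def Fib (M : Type) [AddCommGroup M] : Type := M ≃+ M

instance : TopologicalSpace (Fib M) := ⊥
instance : DiscreteTopology (Fib M) := ⟨rfl⟩
instance [Finite M] : Finite (Fib M) := inferInstanceAs (Finite (M ≃+ M))

/-- The coordinate changes. -/
def cc (i j x : X) (v : Fib M) : Fib M := AddEquiv.trans v (L.trans i j x)

theorem continuousOn_cc [Finite M] (hg : Continuous g) (i j : X) :
    ContinuousOn (fun p : X × Fib M => L.cc i j p.1 p.2) ((L.U i ∩ L.U j) ×ˢ Set.univ) := by
  rintro ⟨x, v⟩ ⟨hx, -⟩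
  refine ContinuousAt.continuousWithinAt ?_
  have h1 : ∀ᶠ p : X × Fib M in 𝓝 (x, v), L.cc i j p.1 p.2 = L.cc i j x v := by
    have h2 : ∀ᶠ p : X × Fib M in 𝓝 (x, v), L.trans i j p.1 = L.trans i j x :=
      continuous_fst.continuousAt.eventually (L.trans_loc hg hx.1 hx.2)
    have h3 : ∀ᶠ p : X × Fib M in 𝓝 (x, v), p.2 = v :=
      (continuous_snd (X := X) (Y := Fib M)).continuousAt.eventually
        (p := fun w : Fib M => w = v)
        ((isOpen_discrete ({v} : Set (Fib M))).mem_nhds (Set.mem_singleton v))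
    filter_upwards [h2, h3] with p e2 e3
    rw [e3, cc, cc, e2]
  exact ContinuousAt.congr (f := fun _ => L.cc i j x v) continuousAt_const
    (h1.mono fun p hp => hp.symm)

/-- The bundle of frames. -/
def core [Finite M] : FiberBundleCore X X (Fib M) where
  baseSet := L.U
  isOpen_baseSet := L.isOpen_U hg
  indexAt := id
  mem_baseSet_at := L.mem_U
  coordChange := L.cc
  coordChange_self i x hx v := AddEquiv.ext fun m => L.trans_self hx _
  continuousOn_coordChange i j := L.continuousOn_cc hg i j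
  coordChange_comp i j k x hx v := AddEquiv.ext fun m => L.trans_trans hx.1.1 hx.1.2 hx.2 _

variable [Finite M]

/-- The total space. -/
abbrev Tot : Type := (L.core hg).TotalSpace

theorem isCoveringMap : IsCoveringMap (L.core hg).proj := FiberBundle.isCoveringMap

theorem surj : Function.Surjective (L.core hg).proj := fun x =>
  ⟨⟨x, (AddEquiv.refl M : Fib M)⟩, rfl⟩

theorem finite_fibre (x : X) : ((L.core hg).proj ⁻¹' {x}).Finite := by
  have : (L.core hg).proj ⁻¹' {x} ⊆
      Set.range (fun m : Fib M => (⟨x, m⟩ : (L.core hg).TotalSpace)) := by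
    rintro ⟨y, m⟩ hy
    have hy' : y = x := hy
    subst hy'
    exact ⟨m, rfl⟩
  exact (Set.finite_range _).subset this

/-- The tautological framing over the bundle of frames. -/
def framing : Framing G (g ∘ (L.core hg).proj) M where
  V e := L.V e.1
  fr e := (L.fr e.1).comp (show M ≃+ M from e.2).toAddMonoidHom
  isFrame e := (L.isFrame e.1 e.1 (L.mem e.1)).comp (show M ≃+ M from e.2)
  loc e₀ := by
    have h1 : e₀ ∈ ((L.core hg).localTriv e₀.1).source :=
      ((L.core hg).mem_localTriv_source _ _).2 (L.mem_U e₀.1)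
    have h2 : ContinuousAt ((L.core hg).localTriv e₀.1) e₀ :=
      ((L.core hg).localTriv e₀.1).continuousAt h1
    have h3 : (((L.core hg).localTriv e₀.1) e₀).2 = e₀.2 := by
      rw [(L.core hg).localTriv_apply]
      exact (L.core hg).coordChange_self _ _ (L.mem_U e₀.1) _
    have h4 : ∀ᶠ e in 𝓝 e₀, (((L.core hg).localTriv e₀.1) e).2 = e₀.2 := by
      have h5 : ∀ᶠ p : X × Fib M in 𝓝 (((L.core hg).localTriv e₀.1) e₀), p.2 = e₀.2 :=
        (continuous_snd (X := X) (Y := Fib M)).continuousAt.eventually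
          (p := fun w : Fib M => w = e₀.2)
          ((isOpen_discrete ({e₀.2} : Set (Fib M))).mem_nhds (Set.mem_singleton_iff.2 h3))
      exact h2.eventually h5
    have h6 : ∀ᶠ e in 𝓝 e₀, e ∈ ((L.core hg).localTriv e₀.1).source :=
      ((L.core hg).localTriv e₀.1).open_source.mem_nhds h1
    filter_upwards [h4, h6] with e h7 h8 m
    have h9 : e.1 ∈ L.U e₀.1 := ((L.core hg).mem_localTriv_source _ _).1 h8
    refine ⟨h9, ?_⟩
    rw [(L.core hg).localTriv_apply] at h7
    have h10 : L.trans e.1 e₀.1 e.1 ((show M ≃+ M from e.2) m) = (show M ≃+ M from e₀.2) m :=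
      congrArg (fun w : Fib M => (show M ≃+ M from w) m) h7
    have h11 := L.trans_spec (L.mem_U e.1) h9 ((show M ≃+ M from e.2) m)
    rw [h10] at h11
    exact h11

end LocFr

/-- A sheaf which is locally constant with finite stalks along a connected subset has local frames
with a common group. -/
theorem exists_locFr [ConnectedSpace X] (hg : Continuous g) (Z : Set T) (hZ : ∀ x, g x ∈ Z)
    (hL : ∀ x, LCat G Z (g x)) :
    ∃ (M : Type) (_ : AddCommGroup M) (_ : Finite M), Nonempty (LocFr g G M) := by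
  choose V hV S hfin hgen using hL
  have hfr : ∀ x y, g y ∈ V x → IsFrame (M := S x) (V := V x)
      (AddSubgroup.subtype (S x) : S x →+ An.Cl.sect G (op' (V x))) (g y) := fun x y hy =>
    isFrame_of_gen (S x) (g y) hy (hgen x (g y) hy (hZ y))
  obtain ⟨x₀⟩ : Nonempty X := inferInstance
  have hsm : Small.{0} (S x₀) := have := hfin x₀; inferInstance
  let M : Type := Shrink.{0} (S x₀)
  have hloc : ∀ x y, g y ∈ V x → (Nonempty (M ≃+ S x) ↔ Nonempty (M ≃+ S y)) := by
    intro x y hy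
    have e : S x ≃+ S y := (hfr x y hy).tr (hfr y y (hV y))
    exact ⟨fun ⟨f⟩ => ⟨f.trans e⟩, fun ⟨f⟩ => ⟨f.trans e.symm⟩⟩
  have hcl : IsClopen {x | Nonempty (M ≃+ S x)} := by
    constructor
    · rw [← isOpen_compl_iff, isOpen_iff_mem_nhds]
      intro x hx
      filter_upwards [((V x).2.preimage hg).mem_nhds (hV x)] with y hy h
      exact hx ((hloc x y hy).2 h)
    · rw [isOpen_iff_mem_nhds]
      intro x hx
      filter_upwards [((V x).2.preimage hg).mem_nhds (hV x)] with y hy
      exact (hloc x y hy).1 hx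
  have huniv : {x | Nonempty (M ≃+ S x)} = Set.univ :=
    hcl.eq_univ ⟨x₀, ⟨Shrink.addEquiv⟩⟩
  have hall : ∀ x, Nonempty (M ≃+ S x) := fun x => by
    have : x ∈ {x | Nonempty (M ≃+ S x)} := by rw [huniv]; trivial
    exact this
  have : Finite (S x₀) := hfin x₀
  refine ⟨M, inferInstance, Finite.of_equiv _ (equivShrink _), ⟨?_⟩⟩
  exact
    { V := V
      fr := fun x => (AddSubgroup.subtype (S x) : S x →+ An.Cl.sect G (op' (V x))).comp
        (hall x).some.toAddMonoidHom
      isFrame := fun x y hy => (hfr x y hy).comp (hall x).some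
      mem := hV }

/-- A sheaf which is locally constant with finite stalks along a connected subset acquires a framing
on a finite covering. -/
theorem exists_cover [ConnectedSpace X] (hg : Continuous g) (Z : Set T) (hZ : ∀ x, g x ∈ Z)
    (hL : ∀ x, LCat G Z (g x)) :
    ∃ (M : Type) (_ : AddCommGroup M) (_ : Finite M) (E : Type) (_ : TopologicalSpace E)
      (p : E → X), IsCoveringMap p ∧ Function.Surjective p ∧ (∀ x, (p ⁻¹' {x}).Finite) ∧
      Nonempty (Framing G (g ∘ p) M) := by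
  obtain ⟨M, _, _, ⟨L⟩⟩ := exists_locFr hg Z hZ hL
  exact ⟨M, inferInstance, inferInstance, L.Tot hg, inferInstance, (L.core hg).proj,
    L.isCoveringMap hg, L.surj hg, L.finite_fibre hg, ⟨L.framing hg⟩⟩

end Cover

end Groth.Agent.An.H866.T2Triv
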