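import Groth.Agent.An.H866.AlgCov
import Groth.Agent.An.H877.Tors
import Groth.Agent.An.H888.Dies

/-!
# Classes of degree one with finite constant coefficients die on a finite étale cover

`diesAt_one`: if every finite covering of `U(ℂ)` is algebraic then every class of degree one over
`U(ℂ)` with finite constant coefficients dies on a finite étale cover of `U`.
-/

set_option autoImplicit false
open CategoryTheory CategoryTheory.Limits AlgebraicGeometry Opposite TopologicalSpace

noncomputable section

namespace Groth.Agent.An.H866.T4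

open AlgCov Groth.Agent.An.H888.ClsH Groth.Agent.An.H888.Dies

variable {X : Scheme.{0}} [X.Over An.SC] [LocallyOfFiniteType (X ↘ An.SC)] [Fact An.EtaleLH]

set_option backward.isDefEq.respectTransparency.types false in
/-- A covering of `U(ℂ)` which is algebraic, as an étale morphism `V ⟶ U`. -/
theorem exists_etale {U : X.Etale} {A' : An.Cl (An.Pts X)} (g : A' ⟶ (An.eps X).obj U)
    (hsurj : Function.Surjective g.toFun)
    (h : IsAlg (X := U.left) (E := A'.E) g.toFun) :
    ∃ (V : X.Etale) (k : V ⟶ U) (c : (An.eps X).obj V ⟶ A'), (An.eps X).map k = c ≫ g ∧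
      ∀ a : An.Pts U.left, ∃ b : An.Pts V.left,
        An.Pts.map (X := V.left) (Y := U.left) k.left b = a := by
  obtain ⟨A⟩ := h
  have hU : Etale U.hom := U.prop
  have h1 : A.π ≫ (U.hom ≫ (X ↘ An.SC)) = @CategoryTheory.over _ _ A.Y An.SC A.over :=
    comp_over A.π An.SC
  let V : X.Etale := Scheme.Etale.mk (A.π ≫ U.hom)
  let k : V ⟶ U := MorphismProperty.Over.homMk A.π rfl trivial
  let i₁ : A.Y.Over An.SC := An.etaleOverLeft X V
  have h2 : @CategoryTheory.over _ _ A.Y An.SC i₁ = @CategoryTheory.over _ _ A.Y An.SC A.over := by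
    rw [← h1]
    change (A.π ≫ U.hom) ≫ (X ↘ An.SC) = A.π ≫ (U.hom ≫ (X ↘ An.SC))
    rw [Category.assoc]
  let c : @An.Pts A.Y i₁ ≃ₜ @An.Pts A.Y A.over :=
    { toFun := An.Pts.cast i₁ A.over h2
      invFun := An.Pts.cast A.over i₁ h2.symm
      left_inv := fun a => rfl
      right_inv := fun a => rfl
      continuous_toFun := (An.Pts.cast i₁ A.over h2).continuous
      continuous_invFun := (An.Pts.cast A.over i₁ h2.symm).continuous }
  have hc : ∀ b : @An.Pts A.Y i₁, g.toFun (A.e (c b)) =
      An.Pts.map (X := V.left) (Y := U.left) k.left b := fun b => by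
    refine (A.comm (c b)).trans ?_
    exact Subtype.ext rfl
  refine ⟨V, k, ⟨fun b => A.e (c b), A.e.continuous.comp c.continuous, fun b => ?_⟩, ?_, ?_⟩
  · change A'.p (A.e (c b)) = An.Pts.map (V.left ↘ X) b
    rw [← g.over, hc]
    exact ((An.eps X).map k).over b
  · apply An.Cl.hom_ext
    funext b
    exact (hc b).symm
  · intro a
    obtain ⟨e, rfl⟩ := hsurj a
    refine ⟨c.symm (A.e.symm e), ?_⟩
    rw [← hc, Homeomorph.apply_symm_apply, Homeomorph.apply_symm_apply]

/-- **`q = 1`**: a class of degree one with finite constant coefficients dies on a finite étale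
cover, if all finite coverings of `U(ℂ)` are algebraic. -/
theorem exists_dies_one {U : X.Etale}
    (hR : ∀ (E : Type) [TopologicalSpace E] (p : E → An.Pts U.left), IsCoveringMap p →
      (∀ x : An.Pts U.left, (p ⁻¹' {x}).Finite) → IsAlg p)
    (M : Type) [AddCommGroup M] [Finite M]
    (x : HA ((An.eps X).obj U) (An.Cl.const (An.Pts X) M) 1) :
    ∃ (V : X.Etale) (k : V ⟶ U), res ((An.eps X).map k) x = 0 ∧
      ∀ a : An.Pts U.left, ∃ b : An.Pts V.left,
        An.Pts.map (X := V.left) (Y := U.left) k.left b = a := by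
  obtain ⟨A', g, hg, hfin, hsurj, hx⟩ := Groth.Agent.An.H877.Tors.exists_covering M x
  obtain ⟨V, k, c, hk, hb⟩ := exists_etale g hsurj (hR A'.E g.toFun hg hfin)
  refine ⟨V, k, ?_, hb⟩
  rw [hk, ← res_res, hx, res_zero]

theorem diesAt_one {U : X.Etale}
    (hR : ∀ (E : Type) [TopologicalSpace E] (p : E → An.Pts U.left), IsCoveringMap p →
      (∀ x : An.Pts U.left, (p ⁻¹' {x}).Finite) → IsAlg p)
    (M : Type) [AddCommGroup M] [Finite M]
    (x : HA ((An.eps X).obj U) (An.Cl.const (An.Pts X) M) 1) (a : An.Pts U.left) : DiesAt x a := by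
  obtain ⟨V, k, hx, hb⟩ := exists_dies_one hR M x
  obtain ⟨b, hb⟩ := hb a
  exact ⟨V, k, b, hb, hx⟩

end Groth.Agent.An.H866.T4
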